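import Groth.Agent.FanoLib.SeqDim.Forms

/-!
# Lines through the points of a general hypersurface
-/

set_option linter.style.haveILetI false

universe u

open MvPolynomial

namespace Groth.Agent.FanoLib.SeqDim

open LineExist

variable {k : Type u} [Field k] {m d : ℕ}

/-- The form with given coefficients. -/
noncomputable def formOf {R : Type u} [CommRing R] (c : Mon (m + 1) d → R) : MvPolynomial (Fin (m + 2)) R :=
  letI := Fintype.ofFinite (Mon (m + 1) d)
  ∑ ν : Mon (m + 1) d, monomial ν.1 (c ν)

theorem isHomogeneous_formOf {R : Type u} [CommRing R] (c : Mon (m + 1) d → R) : (formOf c).IsHomogeneous d := by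
  letI := Fintype.ofFinite (Mon (m + 1) d)
  exact IsHomogeneous.sum _ _ _ fun ν _ => isHomogeneous_monomial _ ν.2

theorem coeff_formOf {R : Type u} [CommRing R] (c : Mon (m + 1) d → R) (ν : Mon (m + 1) d) :
    coeff ν.1 (formOf c) = c ν := by
  classical
  letI := Fintype.ofFinite (Mon (m + 1) d)
  simp only [formOf, coeff_sum, coeff_monomial]
  rw [Finset.sum_eq_single ν]
  · simp
  · intro b _ hb; simp [Subtype.coe_ne_coe.2 hb]
  · simp

theorem formOf_coef (G : LefPen.Form (m + 1) k d) : formOf (coef G) = G.1 := by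
  ext μ
  rcases eq_or_ne μ.degree d with h | h
  · exact coeff_formOf (coef G) ⟨μ, h⟩
  · rw [(isHomogeneous_formOf (coef G)).coeff_eq_zero h,
      ((mem_homogeneousSubmodule _ _).1 G.2).coeff_eq_zero h]

/-- The variables `(0, w')` of the hyperplane `x_l = 0`. -/
noncomputable def wvar (R : Type u) [CommRing R] (l : Fin (m + 2)) : Fin (m + 2) → MvPolynomial (Fin (m + 1)) R :=
  l.insertNth 0 X

/-- The point with `x_l = 1`. -/
def vhat {R : Type u} [CommRing R] (l : Fin (m + 2)) (v' : Fin (m + 1) → R) : Fin (m + 2) → R :=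
  l.insertNth 1 v'

/-- The form seen from the point `(v', x_l = 1)`. -/
noncomputable def psi {R : Type u} [CommRing R] (l : Fin (m + 2)) (c : Mon (m + 1) d → R) (v' : Fin (m + 1) → R) :
    MvPolynomial (Fin (m + 1)) R :=
  aeval (fun i => C (vhat l v' i) + wvar R l i) (formOf c)

theorem map_psi {R R' : Type u} [CommRing R] [CommRing R'] (f : R →+* R') (l : Fin (m + 2))
    (c : Mon (m + 1) d → R) (v' : Fin (m + 1) → R) :
    MvPolynomial.map f (psi l c v') = psi l (fun ν => f (c ν)) (fun a => f (v' a)) := by
  letI := Fintype.ofFinite (Mon (m + 1) d)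
  simp only [psi, formOf, map_sum]
  refine Finset.sum_congr rfl fun ν _ => ?_
  simp only [aeval_monomial, map_mul, MvPolynomial.algebraMap_eq, map_C, Finsupp.prod, map_prod, map_pow, map_add]
  congr 1
  refine Finset.prod_congr rfl fun i _ => ?_
  congr 2
  · rcases Fin.eq_self_or_eq_succAbove l i with h | ⟨b, h⟩ <;> subst h <;> simp [vhat]
  · rcases Fin.eq_self_or_eq_succAbove l i with h | ⟨b, h⟩ <;> subst h <;> simp [wvar]

theorem totalDegree_psi {R : Type u} [CommRing R] (l : Fin (m + 2)) (c : Mon (m + 1) d → R) (v' : Fin (m + 1) → R) :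
    (psi l c v').totalDegree ≤ d := by
  classical
  letI := Fintype.ofFinite (Mon (m + 1) d)
  simp only [psi, formOf, map_sum]
  refine totalDegree_finsetSum_le fun ν _ => ?_
  rw [aeval_monomial]
  refine (totalDegree_mul _ _).trans ?_
  rw [MvPolynomial.algebraMap_eq, totalDegree_C, zero_add]
  refine (totalDegree_finset_prod _ _).trans ?_
  have hν : ∑ i ∈ ν.1.support, ν.1 i = d := ν.2
  refine le_trans (Finset.sum_le_sum fun i _ => ?_) hν.le
  refine (totalDegree_pow _ _).trans ?_
  refine le_trans (Nat.mul_le_mul_left _ ((totalDegree_add _ _).trans (max_le ?_ ?_))) (le_of_eq (mul_one _))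
  · simp
  · rcases Fin.eq_self_or_eq_succAbove l i with h | ⟨b, h⟩ <;> subst h
    · simp [wvar]
    · simp only [wvar, Fin.insertNth_apply_succAbove]
      exact le_trans (totalDegree_monomial_le _ _) (by simp)

theorem choose_eq_sum (m : ℕ) : ∀ d : ℕ,
    Nat.choose (m + 1 + d) d = 1 + ∑ j : Fin d, Nat.choose (m + (j.1 + 1)) (j.1 + 1)
  | 0 => by simp
  | d + 1 => by
    rw [Fin.sum_univ_castSucc]
    simp only [Fin.val_castSucc, Fin.val_last]
    rw [show m + 1 + (d + 1) = (m + 1 + d) + 1 by omega, Nat.choose_succ_succ, choose_eq_sum m d,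
      show m + (d + 1) = m + 1 + d by omega]
    simp only [Nat.succ_eq_add_one]
    omega

/-- The coefficients of the form are recovered from the point and the tuple seen from it. -/
theorem coeff_mem_of_psi {F : Type u} [Field F] [Algebra k F] (L : IntermediateField k F) (l : Fin (m + 2))
    (c : Mon (m + 1) d → F) (v' : Fin (m + 1) → F) (hv : ∀ a, v' a ∈ L)
    (hψ : ∀ μ, coeff μ (psi l c v') ∈ L) (ν : Mon (m + 1) d) : c ν ∈ L := by
  classical
  letI := Fintype.ofFinite (Mon (m + 1) d)
  let sub : Fin (m + 1) → MvPolynomial (Fin (m + 1)) F := fun a => X a - C (v' a)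
  let dh : Fin (m + 2) → MvPolynomial (Fin (m + 1)) F := l.insertNth 1 X
  have h1 : aeval sub (psi l c v') = aeval dh (formOf c) := by
    rw [psi, ← AlgHom.comp_apply, comp_aeval]
    congr 2
    funext i
    rcases Fin.eq_self_or_eq_succAbove l i with h | ⟨b, h⟩ <;> subst h <;>
      simp [sub, dh, vhat, wvar]
  let pL : MvPolynomial (Fin (m + 1)) L :=
    ∑ μ ∈ (psi l c v').support, monomial μ ⟨coeff μ (psi l c v'), hψ μ⟩
  have hpL : MvPolynomial.map (algebraMap L F) pL = psi l c v' := by
    simp only [pL, map_sum]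
    conv_rhs => rw [(psi l c v').as_sum]
    exact Finset.sum_congr rfl fun μ _ => map_monomial _ _ _
  have h2 : aeval dh (formOf c) = MvPolynomial.map (algebraMap L F)
      (aeval (fun a => (X a : MvPolynomial (Fin (m + 1)) L) - C ⟨v' a, hv a⟩) pL) := by
    rw [← h1, ← hpL]
    generalize pL = r
    induction r using MvPolynomial.induction_on with
    | C z => simp
    | add p q hp hq => simp only [map_add, hp, hq]
    | mul_X r j hr =>
      simp only [map_mul, map_X, aeval_X, hr, map_sub, map_C, sub]
      rfl
  let er : Mon (m + 1) d → (Fin (m + 1) →₀ ℕ) := fun ν =>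
    Finsupp.equivFunOnFinite.symm fun a => ν.1 (l.succAbove a)
  have her : Function.Injective er := fun a b hab => by
    have hs : ∀ x, a.1 (l.succAbove x) = b.1 (l.succAbove x) := fun x => DFunLike.congr_fun hab x
    have ha := a.2; have hb := b.2
    simp only [Finsupp.degree_eq_sum, Fin.sum_univ_succAbove _ l, hs] at ha hb
    refine Subtype.ext (Finsupp.ext fun i => ?_)
    rcases Fin.eq_self_or_eq_succAbove l i with h | ⟨x, h⟩ <;> subst h
    · omega
    · exact hs x
  have h3 : aeval dh (formOf c) = ∑ ν, monomial (er ν) (c ν) := by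
    simp only [formOf, map_sum]
    refine Finset.sum_congr rfl fun μ _ => ?_
    rw [aeval_monomial, Finsupp.prod_fintype _ _ (fun _ => pow_zero _), Fin.prod_univ_succAbove _ l]
    simp only [dh, Fin.insertNth_apply_same, one_pow, one_mul, Fin.insertNth_apply_succAbove]
    rw [monomial_eq, Finsupp.prod_fintype _ _ (fun _ => pow_zero _)]
    rfl
  have h4 : coeff (er ν) (aeval dh (formOf c)) = c ν := by
    rw [h3, coeff_sum, Finset.sum_eq_single ν]
    · simp
    · intro b _ hb; rw [coeff_monomial, if_neg (fun h => hb (her h))]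
    · simp
  rw [← h4, h2, coeff_map]
  exact SetLike.coe_mem _

variable [Infinite k]

omit [Infinite k] in
theorem mem_vanId_of_forall {ι : Type} (D : Set (ι → k)) (x : MvPolynomial ι k)
    (h : ∀ Q ∈ (vanId D).minimalPrimes, x ∈ Q) : x ∈ vanId D := by
  have : x ∈ (vanId D).radical := by
    rw [← Ideal.sInf_minimalPrimes]; exact Submodule.mem_sInf.mpr h
  intro b hb
  obtain ⟨n, hn⟩ := this
  exact eq_zero_of_pow_eq_zero (n := n) (by rw [← map_pow]; exact hn b hb)

omit [Infinite k] in
theorem homogeneousComponent_map' {σ : Type} {R R' : Type u} [CommRing R] [CommRing R'] (f : R →+* R') (n : ℕ) (p : MvPolynomial σ R) :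
    homogeneousComponent n (MvPolynomial.map f p) = MvPolynomial.map f (homogeneousComponent n p) := by
  ext μ
  simp only [coeff_homogeneousComponent, coeff_map, apply_ite f, map_zero]

/-- Good points: the tuple seen from a point has the expected dimension. -/
def GoodAt (k : Type u) [Field k] {m d : ℕ} (l : Fin (m + 2)) (c : Mon (m + 1) d → k) (v' : Fin (m + 1) → k) : Prop :=
  ∃ (e : ℕ) (y : Fin e → MvPolynomial (Fin (m + 1)) k), e + d = m + 1 ∧ (∀ a, (y a).IsHomogeneous 1) ∧
    Only k (fun j : Fin d => homogeneousComponent (j.1 + 1) (psi l c v')) y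

/-- Outside the zeros of a nonzero polynomial every zero of the form is good. -/
theorem exists_h (hdm : d ≤ m) (l : Fin (m + 2)) :
    ∃ h : MvPolynomial (Mon (m + 1) d) k, h ≠ 0 ∧ ∀ c, eval c h ≠ 0 →
      ∀ v', coeff 0 (psi l c v') = 0 → GoodAt k l c v' := by
  classical
  let ι := Mon (m + 1) d ⊕ Fin (m + 1)
  let A := MvPolynomial ι k
  let D : Set (ι → k) := {b | coeff 0 (psi l (b ∘ Sum.inl) (b ∘ Sum.inr)) = 0 ∧
    ¬ GoodAt k l (b ∘ Sum.inl) (b ∘ Sum.inr)}
  suffices hkey : ∀ P ∈ (vanId D).minimalPrimes, ∃ h : MvPolynomial (Mon (m + 1) d) k, h ≠ 0 ∧ rename Sum.inl h ∈ P by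
    choose h h0 hP using hkey
    have hfin := Ideal.finite_minimalPrimes_of_isNoetherianRing A (vanId D)
    refine ⟨∏ P ∈ hfin.toFinset.attach, h P.1 (hfin.mem_toFinset.mp P.2), Finset.prod_ne_zero_iff.mpr fun P _ => h0 _ _,
      fun c hc v' h0' => ?_⟩
    by_contra hbad
    apply hc
    have hmem : rename Sum.inl (∏ P ∈ hfin.toFinset.attach, h P.1 (hfin.mem_toFinset.mp P.2)) ∈ vanId D := by
      refine mem_vanId_of_forall D _ fun Q hQ => ?_
      rw [map_prod, ← Finset.mul_prod_erase _ _ (Finset.mem_attach _ ⟨Q, hfin.mem_toFinset.mpr hQ⟩)]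
      exact Ideal.mul_mem_right _ _ (hP Q hQ)
    have := hmem (Sum.elim c v') ⟨h0', hbad⟩
    rwa [eval_rename] at this
  intro P hP
  haveI := hP.1.1
  by_contra hno
  push Not at hno
  let φ : A →ₐ[k] GenPt P := IsScalarTower.toAlgHom k A (GenPt P)
  let c : Mon (m + 1) d → GenPt P := fun ν => φ (X (Sum.inl ν))
  let v' : Fin (m + 1) → GenPt P := fun a => φ (X (Sum.inr a))
  let U : MvPolynomial (Fin (m + 1)) A := psi l (fun ν => (X (Sum.inl ν) : A)) (fun a => X (Sum.inr a))
  have hU : MvPolynomial.map (algebraMap A (GenPt P)) U = psi l c v' := map_psi _ _ _ _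
  have hgen : ∀ e, e + d = m + 1 → ∀ y : Fin e → MvPolynomial (Fin (m + 1)) k, (∀ a, (y a).IsHomogeneous 1) →
      ∃ v : Fin (m + 1) → GenPt P, v ≠ 0 ∧ coeff 0 (psi l c v') = 0 ∧
        (∀ j : Fin d, eval v (homogeneousComponent (j.1 + 1) (psi l c v')) = 0) ∧
        ∀ a, eval v (MvPolynomial.map (algebraMap k (GenPt P)) (y a)) = 0 := by
    intro e he y hy
    obtain ⟨v, hv0, hv⟩ := exists_zero_generic D hP
      (Sum.elim (fun _ : Unit => C (coeff 0 U)) (Sum.elim (fun j : Fin d => homogeneousComponent (j.1 + 1) U)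
        fun a => MvPolynomial.map (algebraMap k A) (y a))) (by
      intro b hb
      obtain ⟨hb0, hbad⟩ := hb
      have hUb : MvPolynomial.map (eval b) U = psi l (b ∘ Sum.inl) (b ∘ Sum.inr) := by
        rw [map_psi]; simp only [eval_X]; rfl
      by_contra hcon
      push Not at hcon
      refine hbad ⟨e, y, he, hy, fun v hvj hvy => ?_⟩
      by_contra hv0
      obtain ⟨i, hi⟩ := hcon v hv0
      apply hi
      rcases i with i | j | a
      · rw [Sum.elim_inl, map_C, eval_C, ← coeff_map, hUb, hb0]
      · rw [Sum.elim_inr, Sum.elim_inl, ← homogeneousComponent_map', hUb]; exact hvj j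
      · rw [Sum.elim_inr, Sum.elim_inr]
        erw [MvPolynomial.map_map]
        rw [show (MvPolynomial.eval b).comp (algebraMap k A) = RingHom.id k from
          RingHom.ext fun z => MvPolynomial.eval_C z, MvPolynomial.map_id]
        exact hvy a)
    refine ⟨v, hv0, ?_, fun j => ?_, fun a => ?_⟩
    · have := hv (Sum.inl ())
      rwa [Sum.elim_inl, map_C, eval_C, ← coeff_map, hU] at this
    · have := hv (Sum.inr (Sum.inl j))
      rwa [Sum.elim_inr, Sum.elim_inl, ← homogeneousComponent_map', hU] at this
    · have := hv (Sum.inr (Sum.inr a))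
      rwa [Sum.elim_inr, Sum.elim_inr, MvPolynomial.map_map, ← IsScalarTower.algebraMap_eq] at this
  let x : Idx m d → GenPt P := fun i => coeff i.2.1 (psi l c v')
  have htuple : ∀ j, tuple x j = homogeneousComponent (j.1 + 1) (psi l c v') := by
    intro j
    ext μ
    rw [coeff_homogeneousComponent]
    split_ifs with h
    · exact coeff_tuple x j ⟨μ, h⟩
    · exact (isHomogeneous_tuple x j).coeff_eq_zero h
  obtain ⟨S, hS, halg⟩ := exists_finset_of_bad (k := k) hdm x fun e he y hy honly => by
    obtain ⟨v, hv0, -, hvj, hvy⟩ := hgen e he y hy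
    exact hv0 (honly v (fun j => by rw [htuple]; exact hvj j) hvy)
  obtain ⟨-, -, h00, -⟩ := hgen (m + 1 - d) (by omega) (fun a => X (Fin.castLE (by omega) a))
    (fun a => isHomogeneous_X _ _)
  let S' := S ∪ Finset.univ.image v'
  let E := IntermediateField.adjoin k (S' : Set (GenPt P))
  let L : IntermediateField k (GenPt P) := (algebraicClosure E (GenPt P)).restrictScalars k
  have hEL : ∀ z ∈ E, z ∈ L := fun z hz =>
    (mem_algebraicClosure_iff (F := E) (E := GenPt P)).mpr (isAlgebraic_algebraMap (⟨z, hz⟩ : E))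
  have hxL : ∀ i, x i ∈ L := fun i => by
    obtain ⟨q, hq0, hq⟩ := halg i
    have hle : IntermediateField.adjoin k (S : Set (GenPt P)) ≤ E :=
      IntermediateField.adjoin.mono _ _ _ (by simp [S'])
    refine (mem_algebraicClosure_iff (F := E) (E := GenPt P)).mpr ⟨q.map (IntermediateField.inclusion hle).toRingHom,
      (Polynomial.map_ne_zero_iff (IntermediateField.inclusion hle).injective).mpr hq0, ?_⟩
    rw [Polynomial.aeval_def, Polynomial.eval₂_map]
    exact hq
  have hψL : ∀ μ, coeff μ (psi l c v') ∈ L := by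
    intro μ
    rcases Nat.eq_zero_or_pos μ.degree with h | h
    · rw [(Finsupp.degree_eq_zero_iff μ).mp h, h00]; exact zero_mem _
    · by_cases h' : μ.degree ≤ d
      · exact hxL ⟨⟨μ.degree - 1, by omega⟩, ⟨μ, show μ.degree = μ.degree - 1 + 1 by omega⟩⟩
      · rw [coeff_eq_zero_of_totalDegree_lt]
        · exact zero_mem _
        · have := totalDegree_psi l c v'
          have e1 : ∑ i ∈ μ.support, μ i = μ.degree := rfl
          omega
  have hcL := coeff_mem_of_psi L l c v' (fun a => hEL _ (IntermediateField.subset_adjoin k _ (by simp [S']))) hψL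
  have hker : RingHom.ker (φ.comp (rename Sum.inl)).toRingHom = (⊥ : Ideal (MvPolynomial (Mon (m + 1) d) k)) := by
    refine eq_bot_iff.mpr fun p hp => ?_
    rw [RingHom.mem_ker] at hp
    by_contra hp0
    refine hno p (fun h => hp0 (by rw [h]; exact zero_mem _)) ?_
    rw [← ker_genPt P]
    exact RingHom.mem_ker.mpr hp
  have hheight := le_height_of_isAlgebraic (⊥ : Ideal (MvPolynomial (Mon (m + 1) d) k)) (φ.comp (rename Sum.inl)) hker S'
    (fun ν => by
      have : (φ.comp (rename Sum.inl)) (X ν) = c ν := by
        rw [AlgHom.comp_apply, rename_X]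
      rw [this]
      exact (mem_algebraicClosure_iff (F := E) (E := GenPt P)).mp (hcL ν)) (c := 1) (by
    letI := Fintype.ofFinite (Mon (m + 1) d)
    rw [Nat.card_eq_fintype_card, card_mon, choose_eq_sum, ← card_idx]
    have h1 := (Finset.card_union_le S (Finset.univ.image v')).trans (add_le_add le_rfl Finset.card_image_le)
    rw [Finset.card_univ, Fintype.card_fin] at h1
    change S'.card ≤ _ at h1
    omega)
  simp at hheight

/-- The codimension of the cone of lines through a good point. -/
theorem codimGE_cone [IsAlgClosed k] (G : LefPen.Form (m + 1) k d) (v : Fin (m + 2) → k) (l : Fin (m + 2)) (hl : v l ≠ 0)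
    (hgood : GoodAt k l (coef G) (fun a => v (l.succAbove a) / v l)) :
    LefPen.CodimGE k {w : Fin (m + 2) → k | ∀ s t : k, eval (s • v + t • w) G.1 = 0} d := by
  classical
  obtain ⟨e, y, he, hy, honly⟩ := hgood
  let v' : Fin (m + 1) → k := fun a => v (l.succAbove a) / v l
  have hvhat : ∀ i, vhat l v' i = v i / v l := fun i => by
    rcases Fin.eq_self_or_eq_succAbove l i with h | ⟨b, h⟩ <;> subst h
    · simp [vhat, hl]
    · simp [vhat, v']
  let Ψ := psi l (coef G) v'
  let ψ : Fin d → MvPolynomial (Fin (m + 1)) k := fun j => homogeneousComponent (j.1 + 1) Ψ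
  let π : Fin (m + 1) → MvPolynomial (Fin (m + 2)) k := fun a => X (l.succAbove a) - C (v' a) * X l
  refine codimGE_of_forall_prime (LinearEquiv.refl k _) _ d fun P hP => ?_
  haveI := hP.1.1
  let C' : Set (Fin (m + 2) → k) := {w | ∀ s t : k, eval (s • v + t • w) G.1 = 0}
  have hvan : ∀ j, aeval π (ψ j) ∈ vanId ((LinearEquiv.refl k (Fin (m + 2) → k)) '' C') := by
    rintro j _ ⟨w, hw, rfl⟩
    let w' : Fin (m + 1) → k := fun a => w (l.succAbove a) - v' a * w l
    have hev : eval (LinearEquiv.refl k (Fin (m + 2) → k) w) (aeval π (ψ j)) = eval w' (ψ j) := by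
      generalize ψ j = p
      induction p using MvPolynomial.induction_on with
      | C a => simp
      | add p q hp hq => simp only [map_add, hp, hq]
      | mul_X p a hp =>
        simp only [map_mul, aeval_X, eval_X, hp]
        simp [π, w']
    rw [hev]
    let Q : Polynomial k := aeval (fun a => Polynomial.C (w' a) * Polynomial.X) Ψ
    have hQ : Q = 0 := by
      refine Polynomial.funext fun b => ?_
      rw [Polynomial.eval_zero]
      have : Polynomial.eval b Q = eval (fun a => b * w' a) Ψ := by
        simp only [Q]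
        generalize Ψ = p
        induction p using MvPolynomial.induction_on with
        | C a => simp
        | add p q hp hq => simp only [map_add, Polynomial.eval_add, hp, hq]
        | mul_X p a hp =>
          simp only [map_mul, aeval_X, eval_X, Polynomial.eval_mul, Polynomial.eval_C, Polynomial.eval_X, hp]
          ring
      rw [this]
      have hpt : eval (fun a => b * w' a) Ψ = eval (((1 - b * w l) / v l) • v + b • w) G.1 := by
        show eval _ (aeval _ (formOf (coef G))) = _
        rw [formOf_coef]
        generalize G.1 = p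
        induction p using MvPolynomial.induction_on with
        | C a => simp
        | add p q hp hq => simp only [map_add, hp, hq]
        | mul_X p i hp =>
          simp only [map_mul, aeval_X, eval_X, hp]
          congr 1
          rw [map_add, eval_C, hvhat]
          rcases Fin.eq_self_or_eq_succAbove l i with h | ⟨a, h⟩ <;> subst h
          · simp only [wvar, Fin.insertNth_apply_same, map_zero, Pi.add_apply, Pi.smul_apply, smul_eq_mul]
            field_simp
            ring
          · simp only [wvar, Fin.insertNth_apply_succAbove, eval_X, Pi.add_apply, Pi.smul_apply, smul_eq_mul, w', v']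
            field_simp
            ring
      rw [hpt]
      exact hw _ _
    have hc := congrArg (fun q => Polynomial.coeff q (j.1 + 1)) hQ
    simp only [Polynomial.coeff_zero] at hc
    rw [← hc]
    show eval w' (homogeneousComponent (j.1 + 1) Ψ) = Polynomial.coeff (aeval _ Ψ) (j.1 + 1)
    generalize Ψ = p
    induction p using MvPolynomial.induction_on' with
    | add p q hp hq => simp only [map_add, Polynomial.coeff_add, hp, hq]
    | monomial μ a =>
      rw [aeval_monomial, homogeneousComponent_of_mem (isHomogeneous_monomial a rfl)]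
      have : (μ.prod fun i t => (Polynomial.C (w' i) * Polynomial.X) ^ t) =
          Polynomial.C (μ.prod fun i t => w' i ^ t) * Polynomial.X ^ μ.degree := by
        simp only [Finsupp.prod, mul_pow, ← Polynomial.C_pow, Finset.prod_mul_distrib, map_prod,
          Finset.prod_pow_eq_pow_sum]
        rfl
      rw [this, Polynomial.algebraMap_eq, ← mul_assoc, ← Polynomial.C_mul, Polynomial.coeff_C_mul_X_pow]
      split_ifs with h <;> simp [eval_monomial, h]
  let φ : MvPolynomial (Fin (m + 2)) k →ₐ[k] GenPt P := IsScalarTower.toAlgHom k _ (GenPt P)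
  let p : Fin (m + 1) → GenPt P := fun a => φ (π a)
  have hp0 : ∀ j, aeval p (ψ j) = 0 := fun j => by
    rw [show aeval p (ψ j) = φ (aeval π (ψ j)) from by rw [← AlgHom.comp_apply, comp_aeval]]
    exact RingHom.mem_ker.mp ((ker_genPt P).symm ▸ hP.1.2 (hvan j) :
      aeval π (ψ j) ∈ RingHom.ker (algebraMap (MvPolynomial (Fin (m + 2)) k) (GenPt P)))
  let S : Finset (GenPt P) := insert (φ (X l)) (Finset.univ.image fun a => aeval p (y a))
  refine le_height_of_isAlgebraic P φ (ker_genPt P) S ?_ ?_
  · let E := IntermediateField.adjoin k (S : Set (GenPt P))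
    let L : IntermediateField k (GenPt P) := (algebraicClosure E (GenPt P)).restrictScalars k
    suffices ∀ i, φ (X i) ∈ L from fun i => (mem_algebraicClosure_iff (F := E) (E := GenPt P)).mp (this i)
    have hl' : φ (X l) ∈ L := (mem_algebraicClosure_iff (F := E) (E := GenPt P)).mpr
      (isAlgebraic_algebraMap (⟨_, IntermediateField.subset_adjoin k _ (Finset.mem_coe.mpr (Finset.mem_insert_self _ _))⟩ : E))
    intro i
    rcases Fin.eq_self_or_eq_succAbove l i with h | ⟨a, h⟩ <;> subst h
    · exact hl'
    have hfin := finite_of_only (F := k) (G := ψ) (D := fun j => j.1 + 1)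
      (fun j => homogeneousComponent_isHomogeneous _ _) hy (by
        have e1 : ∀ q : MvPolynomial (Fin (m + 1)) k, MvPolynomial.map (algebraMap k k) q = q := fun q => by
          rw [Algebra.algebraMap_self, MvPolynomial.map_id]
        simp only [e1]; exact honly)
    obtain ⟨χ, hχm, hχ⟩ := (RingHom.Finite.to_isIntegral hfin) (Ideal.Quotient.mk _ (X a))
    have hker : ∀ z ∈ Ideal.span (Set.range ψ), (aeval p).toRingHom z = 0 := fun z hz => by
      refine RingHom.mem_ker.mp ((Ideal.span_le.mpr ?_) hz)
      rintro _ ⟨j, rfl⟩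
      exact RingHom.mem_ker.mpr (hp0 j)
    let Q := Ideal.Quotient.lift (Ideal.span (Set.range ψ)) _ hker
    let yv : Fin e → E := fun b => ⟨aeval p (y b), IntermediateField.subset_adjoin k _ (Finset.mem_coe.mpr (Finset.mem_insert_of_mem (Finset.mem_image_of_mem _ (Finset.mem_univ b))))⟩
    have hcomp : Q.comp ((Ideal.Quotient.mkₐ k (Ideal.span (Set.range ψ))).comp (aeval y)).toRingHom =
        (algebraMap E (GenPt P)).comp (aeval yv).toRingHom := by
      refine MvPolynomial.ringHom_ext (fun z => ?_) (fun b => ?_)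
      · show aeval p (aeval y (C z)) = algebraMap E (GenPt P) (aeval yv (C z))
        simp only [aeval_C]
        rw [MvPolynomial.algebraMap_eq, aeval_C, ← IsScalarTower.algebraMap_apply]
      · show aeval p (aeval y (X b)) = algebraMap E (GenPt P) (aeval yv (X b))
        rw [aeval_X, aeval_X]; rfl
    have h0 := congrArg Q hχ
    rw [Polynomial.hom_eval₂, map_zero, hcomp] at h0
    have hr : Q (Ideal.Quotient.mk _ (X a)) = p a := aeval_X p a
    rw [hr, ← Polynomial.eval₂_map] at h0
    have hpa : p a ∈ L := (mem_algebraicClosure_iff (F := E) (E := GenPt P)).mpr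
      ⟨χ.map (aeval yv).toRingHom, (hχm.map _).ne_zero, h0⟩
    have : φ (X (l.succAbove a)) = p a + algebraMap k _ (v' a) * φ (X l) := by
      simp only [p, π, map_sub, map_mul]
      rw [show φ (C (v' a)) = algebraMap k _ (v' a) from φ.commutes _]
      ring
    rw [this]
    exact add_mem hpa (mul_mem (L.algebraMap_mem _) hl')
  · have h1 := (Finset.card_insert_le (φ (X l)) (Finset.univ.image fun a => aeval p (y a))).trans
      (Nat.add_le_add_right Finset.card_image_le 1)
    rw [Finset.card_univ, Fintype.card_fin] at h1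
    rw [Nat.card_fin]
    change S.card ≤ _ at h1
    omega

/-- Through every point of a general hypersurface the lines form a family of the expected dimension. -/
theorem isGeneric_cone [IsAlgClosed k] (hdm : d ≤ m) :
    LefPen.IsGeneric k {Φ : LefPen.Form (m + 1) k d | ∀ v : Fin (m + 2) → k, v ≠ 0 → eval v Φ.1 = 0 →
      LefPen.CodimGE k {w : Fin (m + 2) → k | ∀ s t : k, eval (s • v + t • w) Φ.1 = 0} d} := by
  classical
  choose h h0 hh using exists_h (k := k) hdm
  refine LineExist.isGeneric_of_eval_ne_zero (∏ l, h l) (Finset.prod_ne_zero_iff.mpr fun l _ => h0 l) _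
    fun G hG v hv hGv => ?_
  obtain ⟨l, hl⟩ := Function.ne_iff.mp hv
  refine codimGE_cone G v l hl (hh l _ ?_ _ ?_)
  · intro hz
    apply hG
    rw [map_prod, Finset.prod_eq_zero (Finset.mem_univ l) hz]
  · show coeff 0 (psi l (coef G) _) = 0
    rw [show ∀ q : MvPolynomial (Fin (m + 1)) k, coeff 0 q = eval (fun _ => 0) q from
      fun q => by
        induction q using MvPolynomial.induction_on with
        | C a => simp
        | add p q hp hq => simp [hp, hq]
        | mul_X p i hp => simp [coeff_mul_X']]
    have : eval (fun _ : Fin (m + 1) => (0 : k)) (psi l (coef G) (fun a => v (l.succAbove a) / v l)) =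
        eval (fun i => (v l)⁻¹ * v i) G.1 := by
      rw [psi, formOf_coef]
      generalize G.1 = p
      induction p using MvPolynomial.induction_on with
      | C a => simp
      | add p q hp hq => simp only [map_add, hp, hq]
      | mul_X p i hp =>
        simp only [map_mul, aeval_X, eval_X, hp]
        congr 1
        rw [map_add, eval_C]
        rcases Fin.eq_self_or_eq_succAbove l i with h | ⟨b, h⟩ <;> subst h
        · simp [vhat, wvar]; field_simp [show v _ ≠ 0 from hl]
        · simp [vhat, wvar, div_eq_inv_mul]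
    rw [this]
    have hscale : eval (fun i => (v l)⁻¹ * v i) G.1 = (v l)⁻¹ ^ d * eval v G.1 := by
      rw [eval_eq', eval_eq', Finset.mul_sum]
      refine Finset.sum_congr rfl fun ν hν => ?_
      simp only [mul_pow, Finset.prod_mul_distrib, Finset.prod_pow_eq_pow_sum]
      have hsum : ∑ a, ν a = d := by
        simpa [Finsupp.weight_apply, Finsupp.sum_fintype] using
          ((mem_homogeneousSubmodule _ _).1 G.2) (mem_support_iff.mp hν)
      rw [hsum]; ring
    rw [hscale, hGv, mul_zero]

end Groth.Agent.FanoLib.SeqDim
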