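import Groth.Agent.FanoLib.SeqDim.Proj
import Groth.Agent.S18464

/-!
# Sequences of forms with too large intersection lose parameters
-/

set_option linter.style.haveILetI false

universe u

open MvPolynomial

namespace Groth.Agent.FanoLib.SeqDim

theorem self_le_choose : ∀ {m D : ℕ}, 1 ≤ D → D ≤ m → m + 1 ≤ Nat.choose (m + 1) D
  | 0, D, h1, h2 => by omega
  | m + 1, D, h1, h2 => by
    rcases Nat.lt_or_ge m D with h | h
    · obtain rfl : D = m + 1 := by omega
      rw [Nat.choose_succ_self_right]
    · have ih := self_le_choose h1 h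
      obtain ⟨D, rfl⟩ : ∃ D', D = D' + 1 := ⟨D - 1, by omega⟩
      rw [Nat.choose_succ_succ (m + 1) D]
      have : 1 ≤ Nat.choose (m + 1) D := Nat.choose_pos (by omega)
      simp only [Nat.succ_eq_add_one] at *
      omega

variable {k F : Type u} [Field k] [Infinite k] [Field F] [IsAlgClosed F] [Algebra k F]

/-- A bad sequence: some form is algebraic over the others and at least `m + 1` fewer parameters. -/
theorem exists_generators {m d : ℕ} (hdm : d ≤ m) (G : Fin d → MvPolynomial (Fin (m + 1)) F)
    (hG : ∀ i, (G i).IsHomogeneous (i.1 + 1))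
    (hbad : ∀ e, e + d = m + 1 → ∀ y : Fin e → MvPolynomial (Fin (m + 1)) k, (∀ a, (y a).IsHomogeneous 1) →
      ¬ Only F G (fun a => MvPolynomial.map (algebraMap k F) (y a))) :
    ∃ (i : Fin d) (r : ℕ) (a : Fin r → F), r + (m + 1) ≤ Nat.choose (m + (i.1 + 1)) (i.1 + 1) ∧
      ∀ ν, IsAlgebraic (IntermediateField.adjoin k (Set.range a ∪ {x : F | ∃ j, j ≠ i ∧ ∃ μ, coeff μ (G j) = x}))
        (coeff ν (G i)) := by
  classical
  let P : ℕ → Prop := fun n => ∀ e, e + n = m + 1 → ∀ y : Fin e → MvPolynomial (Fin (m + 1)) k,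
    (∀ a, (y a).IsHomogeneous 1) →
      ¬ Only F (fun i : {i : Fin d // i.1 < n} => G i.1) (fun a => MvPolynomial.map (algebraMap k F) (y a))
  have hPd : P d := fun e he y hy h => hbad e he y hy fun v hv => h v fun i => hv i.1
  have hP0 : ¬ P 0 := fun h => h (m + 1) rfl (fun a => X a) (fun a => isHomogeneous_X k a)
    fun v _ hv => funext fun a => by simpa using hv a
  have hex : ∃ n, P n := ⟨d, hPd⟩
  obtain ⟨n, hn⟩ : ∃ n, Nat.find hex = n + 1 :=
    Nat.exists_eq_succ_of_ne_zero fun h => hP0 (h ▸ Nat.find_spec hex)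
  have hnext : P (n + 1) := hn ▸ Nat.find_spec hex
  have hnd : n < d := by have := Nat.find_min' hex hPd; omega
  have hprev : ¬ P n := Nat.find_min hex (by omega)
  simp only [P, not_forall, not_not] at hprev
  obtain ⟨e, he, y, hy, honly⟩ := hprev
  let i₀ : Fin d := ⟨n, hnd⟩
  let D := n + 1
  -- every rational value of `y` is taken on the zeros of the first `n + 1` forms
  let G' : {i : Fin d // i.1 < n + 1} → MvPolynomial (Fin (m + 1)) F := fun i => G i.1
  have hover : ∀ c : Fin e → k, ∃ v : Fin (m + 1) → F, (∀ i, eval v (G' i) = 0) ∧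
      ∀ a, eval v (MvPolynomial.map (algebraMap k F) (y a)) = algebraMap k F (c a) :=
    exists_zero_over (D := fun i => i.1.1 + 1) (fun i => hG i.1) (fun i => Nat.succ_ne_zero _) hy
      (fun v hv hy0 => honly v (fun i => hv ⟨i.1, by have := i.2; omega⟩) hy0)
      (fun y' hy' => hnext (e - 1) (by omega) y' hy')
  -- split the forms of degree `D`
  let V := homogeneousSubmodule (Fin (m + 1)) k D
  let W := homogeneousSubmodule (Fin e) k D
  have hmaps : ∀ q ∈ W, (aeval y).toLinearMap q ∈ V := fun q hq => by
    rw [mem_homogeneousSubmodule] at hq ⊢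
    simpa using hq.aeval y hy
  let Φ : W →ₗ[k] V := ((aeval y).toLinearMap).restrict hmaps
  have hevalΦ : ∀ (v : Fin (m + 1) → F) (q : MvPolynomial (Fin e) k),
      eval v (MvPolynomial.map (algebraMap k F) (aeval y q)) =
        eval (fun a => eval v (MvPolynomial.map (algebraMap k F) (y a))) (MvPolynomial.map (algebraMap k F) q) := by
    intro v q
    induction q using MvPolynomial.induction_on with
    | C c => simp
    | add p q hp hq => simp only [map_add, hp, hq]
    | mul_X p b hp => simp only [map_mul, hp, aeval_X, map_X, eval_X]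
  have hΦ : Function.Injective Φ := by
    rw [← LinearMap.ker_eq_bot, LinearMap.ker_eq_bot']
    intro q hq
    have hq0 : aeval y (q : MvPolynomial (Fin e) k) = 0 := congrArg Subtype.val hq
    refine Subtype.ext (MvPolynomial.map_injective _ (algebraMap k F).injective ?_)
    rw [ZeroMemClass.coe_zero, map_zero]
    refine eq_zero_of_forall_eval_algebraMap (k := k) _ fun c => ?_
    obtain ⟨v, -, hvy⟩ := hover c
    have := hevalΦ v q
    rw [hq0, map_zero, map_zero] at this
    rw [← funext hvy, ← this]
  obtain ⟨R, hR⟩ := (LinearMap.range Φ).exists_isCompl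
  haveI hVfin : Module.Finite k V := (S18464.finite_finrank_homogeneous k m D).1
  have hrk : Module.finrank k R + (m + 1) ≤ Nat.choose (m + D) D := by
    have h1 := Submodule.finrank_add_eq_of_isCompl hR
    rw [LinearMap.finrank_range_of_inj hΦ, (S18464.finite_finrank_homogeneous k m D).2] at h1
    obtain ⟨e', rfl⟩ : ∃ e', e = e' + 1 := ⟨e - 1, by omega⟩
    rw [(S18464.finite_finrank_homogeneous k e' D).2, show e' + D = m + 1 by omega] at h1
    have := self_le_choose (m := m) (D := D) (by omega) (by omega)
    omega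
  haveI : Module.Free k R := Module.Free.of_divisionRing k R
  let b := Module.finBasis k R
  let mon : (Fin (m + 1) →₀ ℕ) → V := fun ν => if h : ν.degree = D then
    ⟨monomial ν 1, (mem_homogeneousSubmodule _ _).mpr (isHomogeneous_monomial _ h)⟩ else 0
  have hdec : ∀ x : V, ∃ (q : W) (w : R), Φ q + (w : V) = x := fun x => by
    obtain ⟨_, ⟨q, rfl⟩, w, hw, h⟩ := Submodule.mem_sup.mp (hR.sup_eq_top ▸ Submodule.mem_top : x ∈ LinearMap.range Φ ⊔ R)
    exact ⟨q, ⟨w, hw⟩, h⟩
  choose q w hqw using hdec
  let c : (Fin (m + 1) →₀ ℕ) → F := fun ν => coeff ν (G i₀)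
  let h : MvPolynomial (Fin e) F :=
    ∑ ν ∈ (G i₀).support, C (c ν) * MvPolynomial.map (algebraMap k F) (q (mon ν) : MvPolynomial (Fin e) k)
  let a : Fin (Module.finrank k R) → F := fun j =>
    ∑ ν ∈ (G i₀).support, c ν * algebraMap k F (b.repr (w (mon ν)) j)
  let rest : MvPolynomial (Fin (m + 1)) F :=
    ∑ j, C (a j) * MvPolynomial.map (algebraMap k F) ((b j : V) : MvPolynomial (Fin (m + 1)) k)
  have hsplit : G i₀ = aeval (fun a => MvPolynomial.map (algebraMap k F) (y a)) h + rest := by
    have hw : ∀ x, MvPolynomial.map (algebraMap k F) ((w x : V) : MvPolynomial (Fin (m + 1)) k) =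
        ∑ j, C (algebraMap k F (b.repr (w x) j)) * MvPolynomial.map (algebraMap k F) ((b j : V) : MvPolynomial (Fin (m + 1)) k) := by
      intro x
      conv_lhs => rw [← b.sum_repr (w x)]
      simp only [Submodule.coe_sum, map_sum, Submodule.coe_smul_of_tower, MvPolynomial.smul_eq_C_mul, map_mul, map_C]
    have hh : aeval (fun a => MvPolynomial.map (algebraMap k F) (y a)) h = ∑ ν ∈ (G i₀).support,
        C (c ν) * MvPolynomial.map (algebraMap k F) ((Φ (q (mon ν)) : V) : MvPolynomial (Fin (m + 1)) k) := by
      simp only [h, map_sum, map_mul, aeval_C, MvPolynomial.algebraMap_eq]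
      refine Finset.sum_congr rfl fun ν _ => congrArg _ ?_
      show _ = MvPolynomial.map (algebraMap k F) (aeval y (q (mon ν) : MvPolynomial (Fin e) k))
      generalize (q (mon ν) : MvPolynomial (Fin e) k) = p
      induction p using MvPolynomial.induction_on with
      | C z => simp
      | add p q hp hq => simp only [map_add, hp, hq]
      | mul_X p j hp => simp only [map_mul, map_X, aeval_X, hp]
    have hr : rest = ∑ ν ∈ (G i₀).support,
        C (c ν) * MvPolynomial.map (algebraMap k F) ((w (mon ν) : V) : MvPolynomial (Fin (m + 1)) k) := by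
      simp only [rest, a, map_sum, map_mul, Finset.sum_mul, hw, Finset.mul_sum]
      rw [Finset.sum_comm]
      exact Finset.sum_congr rfl fun ν _ => Finset.sum_congr rfl fun j _ => by ring
    rw [hh, hr, ← Finset.sum_add_distrib]
    conv_lhs => rw [(G i₀).as_sum]
    refine Finset.sum_congr rfl fun ν hν => ?_
    rw [← mul_add, ← map_add, ← Submodule.coe_add, hqw]
    have hν' : ν.degree = D := by
      have := hG i₀ (mem_support_iff.mp hν)
      rwa [Finsupp.degree_eq_weight_one]
    simp only [mon, dif_pos hν', map_monomial, map_one, c]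
    rw [C_mul_monomial, mul_one]
  let T : Set F := Set.range a ∪ {x : F | ∃ j, j ≠ i₀ ∧ ∃ μ, coeff μ (G j) = x}
  let E := IntermediateField.adjoin k T
  let L : IntermediateField k F := (algebraicClosure E F).restrictScalars k
  refine ⟨i₀, _, a, hrk, fun ν => ?_⟩
  show IsAlgebraic E (coeff ν (G i₀))
  rw [← mem_algebraicClosure_iff]
  show coeff ν (G i₀) ∈ L
  have hTL : ∀ x ∈ T, x ∈ L := fun x hx =>
    (mem_algebraicClosure_iff (F := E) (E := F)).mpr (isAlgebraic_algebraMap (⟨x, IntermediateField.subset_adjoin k T hx⟩ : E))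
  have hT : ∀ (p : MvPolynomial (Fin (m + 1)) F), (∀ μ, coeff μ p ∈ E) → ∃ p' : MvPolynomial (Fin (m + 1)) E,
      MvPolynomial.map (algebraMap E F) p' = p := fun p hp => by
    refine ⟨∑ μ ∈ p.support, monomial μ ⟨coeff μ p, hp μ⟩, ?_⟩
    rw [map_sum]
    conv_rhs => rw [p.as_sum]
    exact Finset.sum_congr rfl fun μ _ => map_monomial _ _ _
  choose GE hGE using fun i : {i : Fin d // i.1 < n} => hT (G i.1) fun μ =>
    IntermediateField.subset_adjoin k T (Or.inr ⟨i.1, fun h => absurd i.2 (by rw [h]; exact lt_irrefl n), μ, rfl⟩)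
  have hrest : ∀ μ, coeff μ rest ∈ E := fun μ => by
    simp only [rest, coeff_sum, coeff_C_mul, coeff_map]
    exact sum_mem fun j _ => mul_mem (IntermediateField.subset_adjoin k T (Or.inl ⟨j, rfl⟩)) (E.algebraMap_mem _)
  obtain ⟨restE, hrestE⟩ := hT rest hrest
  let yE : Fin e → MvPolynomial (Fin (m + 1)) E := fun a => MvPolynomial.map (algebraMap k E) (y a)
  have hyE : ∀ a, MvPolynomial.map (algebraMap E F) (yE a) = MvPolynomial.map (algebraMap k F) (y a) := fun a => by
    rw [MvPolynomial.map_map, ← IsScalarTower.algebraMap_eq]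
  have hGEh : ∀ i, (GE i).IsHomogeneous (i.1.1 + 1) := fun i => by
    refine IsHomogeneous.of_map (algebraMap E F).injective ?_
    rw [hGE]; exact hG i.1
  have hfin := finite_of_only (F := F) (G := GE) hGEh (y := yE) (fun a => (hy a).map _)
    (by simp only [hGE, hyE]; exact honly)
  obtain ⟨χ, hχm, hχ⟩ := (RingHom.Finite.to_isIntegral hfin) (Ideal.Quotient.mk _ restE)
  have hval : ∀ c : Fin e → k, eval (fun a => algebraMap k F (c a)) h ∈ L := by
    intro c
    obtain ⟨v, hv0, hvy⟩ := hover c
    have hker : ∀ z ∈ Ideal.span (Set.range GE), (aeval v : MvPolynomial (Fin (m + 1)) E →ₐ[E] F).toRingHom z = 0 := by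
      intro z hz
      refine RingHom.mem_ker.mp ((Ideal.span_le.mpr ?_) hz)
      rintro _ ⟨i, rfl⟩
      rw [SetLike.mem_coe, RingHom.mem_ker]
      show aeval v (GE i) = 0
      rw [aeval_def, ← eval_map, hGE]
      exact hv0 ⟨i.1, by have := i.2; omega⟩
    let ψ := Ideal.Quotient.lift (Ideal.span (Set.range GE)) _ hker
    let cE : Fin e → E := fun a => algebraMap k E (c a)
    have hcomp : ψ.comp ((Ideal.Quotient.mkₐ E (Ideal.span (Set.range GE))).comp (aeval yE)).toRingHom =
        (algebraMap E F).comp (eval cE) := by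
      refine MvPolynomial.ringHom_ext (fun z => ?_) (fun a => ?_)
      · show aeval v (aeval yE (C z)) = algebraMap E F (eval cE (C z))
        simp
      · show aeval v (aeval yE (X a)) = algebraMap E F (eval cE (X a))
        rw [aeval_X, eval_X, aeval_def, ← eval_map, hyE, hvy, ← IsScalarTower.algebraMap_apply]
    have h0 := congrArg ψ hχ
    rw [Polynomial.hom_eval₂, map_zero, hcomp] at h0
    have hr : ψ (Ideal.Quotient.mk _ restE) = eval v rest := by
      show aeval v restE = _
      rw [aeval_def, ← eval_map, hrestE]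
    rw [hr, ← Polynomial.eval₂_map] at h0
    have hh : eval v (aeval (fun a => MvPolynomial.map (algebraMap k F) (y a)) h) =
        eval (fun a => algebraMap k F (c a)) h := by
      rw [← funext hvy]
      generalize h = p
      induction p using MvPolynomial.induction_on with
      | C z => simp
      | add p q hp hq => simp only [map_add, hp, hq]
      | mul_X p j hp => simp only [map_mul, aeval_X, eval_X, hp]
    have hsum : eval (fun a => algebraMap k F (c a)) h = - eval v rest := by
      have h1 := hv0 ⟨i₀, show n < n + 1 by omega⟩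
      change eval v (G i₀) = 0 at h1
      rw [hsplit, map_add, hh] at h1
      exact eq_neg_of_add_eq_zero_left h1
    rw [hsum]
    exact neg_mem ((mem_algebraicClosure_iff (F := E) (E := F)).mpr
      ⟨χ.map (eval cE), (hχm.map _).ne_zero, h0⟩)
  have hL : ∀ (p : MvPolynomial (Fin e) F), (∀ μ, coeff μ p ∈ L) → ∀ μ,
      coeff μ (aeval (fun a => MvPolynomial.map (algebraMap k F) (y a)) p) ∈ L := by
    intro p hp
    let pL : MvPolynomial (Fin e) L := ∑ μ ∈ p.support, monomial μ ⟨coeff μ p, hp μ⟩
    have e1 : aeval (fun a => MvPolynomial.map (algebraMap k F) (y a)) p =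
        MvPolynomial.map (algebraMap L F) (aeval (fun a => MvPolynomial.map (algebraMap k L) (y a)) pL) := by
      have e2 : MvPolynomial.map (algebraMap L F) pL = p := by
        simp only [pL, map_sum]
        conv_rhs => rw [p.as_sum]
        exact Finset.sum_congr rfl fun μ _ => map_monomial _ _ _
      conv_lhs => rw [← e2]
      generalize pL = r
      induction r using MvPolynomial.induction_on with
      | C z => simp
      | add p q hp hq => simp only [map_add, hp, hq]
      | mul_X r j hr =>
        simp only [map_mul, map_X, aeval_X, hr, MvPolynomial.map_map, ← IsScalarTower.algebraMap_eq]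
    intro μ
    rw [e1, coeff_map]
    exact SetLike.coe_mem _
  rw [hsplit, coeff_add]
  exact add_mem (hL h (coeff_mem L h hval) ν)
    ((mem_algebraicClosure_iff (F := E) (E := F)).mpr (isAlgebraic_algebraMap (⟨_, hrest ν⟩ : E)))

end Groth.Agent.FanoLib.SeqDim
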