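import Groth.Agent.FanoLib.SeqDim.Proj
import Groth.Agent.VarDim.Basic
import Groth.Prelude.Def_W4c2ratcurvhypCodim

/-!
# Generic points of vanishing ideals, heights and codimensions
-/

set_option linter.style.haveILetI false

universe u

open MvPolynomial Cardinal

namespace Groth.Agent.FanoLib.SeqDim

variable {k : Type u} [Field k] {ι : Type} [Finite ι]

/-- A prime whose residue field is algebraic over few elements has large height. -/
theorem le_height_of_isAlgebraic (P : Ideal (MvPolynomial ι k)) [P.IsPrime] {F : Type u} [Field F] [Algebra k F]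
    (f : MvPolynomial ι k →ₐ[k] F) (hf : RingHom.ker f.toRingHom = P) (S : Finset F)
    (hS : ∀ i, IsAlgebraic (IntermediateField.adjoin k (S : Set F)) (f (X i))) {c : ℕ}
    (hc : S.card + c ≤ Nat.card ι) : (c : ℕ∞) ≤ P.height := by
  let E := IntermediateField.adjoin k (S : Set F)
  let L : IntermediateField k F := (algebraicClosure E F).restrictScalars k
  have hSL : ∀ x ∈ (S : Set F), x ∈ L := fun x hx =>
    (mem_algebraicClosure_iff (F := E) (E := F)).mpr
      (isAlgebraic_algebraMap (⟨x, IntermediateField.subset_adjoin k _ hx⟩ : E))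
  have hfL : ∀ p, f p ∈ L := by
    intro p
    induction p using MvPolynomial.induction_on with
    | C a => rw [show f (C a) = algebraMap k F a from f.commutes a]; exact L.algebraMap_mem a
    | add p q hp hq => rw [map_add]; exact add_mem hp hq
    | mul_X p i hp => rw [map_mul]; exact mul_mem hp ((mem_algebraicClosure_iff (F := E) (E := F)).mpr (hS i))
  haveI halg : Algebra.IsAlgebraic (Algebra.adjoin k {x : L | (x : F) ∈ (S : Set F)}) L := by
    refine ⟨fun x => ?_⟩
    have hx : IsAlgebraic (Algebra.adjoin k (S : Set F)) (x : F) :=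
      IntermediateField.isAlgebraic_adjoin_iff.mp ((mem_algebraicClosure_iff (F := E) (E := F)).mp x.2)
    obtain ⟨q, hq0, hq⟩ := hx
    let A := Algebra.adjoin k {x : L | (x : F) ∈ (S : Set F)}
    have hmap : A.map L.val = Algebra.adjoin k (S : Set F) := by
      rw [AlgHom.map_adjoin]
      congr 1
      ext z
      exact ⟨fun ⟨w, hw, hwz⟩ => hwz ▸ hw, fun hz => ⟨⟨z, hSL z hz⟩, hz, rfl⟩⟩
    let e : A ≃ₐ[k] Algebra.adjoin k (S : Set F) :=
      (A.equivMapOfInjective L.val Subtype.val_injective).trans (Subalgebra.equivOfEq _ _ hmap)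
    refine ⟨q.map e.symm.toAlgHom.toRingHom, (Polynomial.map_ne_zero_iff e.symm.injective).mpr hq0, Subtype.val_injective ?_⟩
    rw [Polynomial.aeval_def, Polynomial.eval₂_map]
    show L.val.toRingHom (Polynomial.eval₂ _ x q) = _
    rw [Polynomial.hom_eval₂]
    refine Eq.trans ?_ hq
    rw [Polynomial.aeval_def]
    congr 1
    refine RingHom.ext fun a => ?_
    show ((e.symm a : A) : F) = (a : F)
    conv_rhs => rw [← e.apply_symm_apply a]
    rfl
  have h1 : Algebra.trdeg k L ≤ (S.card : Cardinal) := by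
    refine (Algebra.IsAlgebraic.trdeg_le_cardinalMk k {x : L | (x : F) ∈ (S : Set F)}).trans ?_
    refine le_trans (Cardinal.mk_le_of_injective (f := fun x => (⟨x.1.1, x.2⟩ : (S : Set F))) ?_) (by simp)
    exact fun a b h => Subtype.ext (Subtype.ext (congrArg Subtype.val h :))
  let g : (MvPolynomial ι k ⧸ P) →ₐ[k] L :=
    Ideal.Quotient.liftₐ P (f.codRestrict L.toSubalgebra hfL) fun a ha => Subtype.ext (by
      rw [← hf] at ha; exact RingHom.mem_ker.mp ha)
  have hg : Function.Injective g := by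
    rw [injective_iff_map_eq_zero]
    intro z hz
    obtain ⟨a, rfl⟩ := Ideal.Quotient.mk_surjective z
    rw [Ideal.Quotient.eq_zero_iff_mem, ← hf]
    exact RingHom.mem_ker.mpr (congrArg Subtype.val hz)
  obtain ⟨r, hr, hr'⟩ := VarDim.exists_dim_eq_trdeg k (MvPolynomial ι k ⧸ P)
  have hrS : r ≤ S.card := by
    have := (trdeg_le_of_injective g hg).trans h1
    rw [hr'] at this
    exact_mod_cast this
  have hdim : ringKrullDim (MvPolynomial ι k) = (Nat.card ι : ℕ) := by
    rw [MvPolynomial.ringKrullDim_of_isNoetherianRing, ringKrullDim_eq_zero_of_field, zero_add]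
  have hsum := VarDim.height_add_coheight_eq k (Nat.card ι) (MvPolynomial ι k) hdim ⟨P, inferInstance⟩
  have hco := VarDim.coheight_eq_ringKrullDim_quotient (R := MvPolynomial ι k) ⟨P, inferInstance⟩
  rw [hr] at hco
  have hco' : Order.coheight (⟨P, inferInstance⟩ : PrimeSpectrum (MvPolynomial ι k)) = (r : ℕ∞) := WithBot.coe_injective hco
  rw [hco', ← PrimeSpectrum.height_eq_orderHeight] at hsum
  have htop : P.height ≠ ⊤ := fun h => by
    change P.height + _ = _ at hsum
    rw [h, top_add] at hsum; exact ENat.top_ne_natCast _ hsum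
  obtain ⟨hN, hhN⟩ := ENat.ne_top_iff_exists.mp htop
  change P.height + _ = _ at hsum
  rw [← hhN] at hsum ⊢
  norm_cast at hsum ⊢
  omega

/-- The ideal of polynomials vanishing on a set. -/
def vanId (D : Set (ι → k)) : Ideal (MvPolynomial ι k) where
  carrier := {p | ∀ b ∈ D, eval b p = 0}
  zero_mem' := fun b _ => map_zero _
  add_mem' {p q} hp hq b hb := by rw [map_add, hp b hb, hq b hb, add_zero]
  smul_mem' c p hp b hb := by rw [smul_eq_mul, map_mul, hp b hb, mul_zero]

omit [Finite ι] in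
theorem mem_vanId {D : Set (ι → k)} {p : MvPolynomial ι k} : p ∈ vanId D ↔ ∀ b ∈ D, eval b p = 0 := Iff.rfl

theorem isRadical_vanId (D : Set (ι → k)) : (vanId D).IsRadical := by
  rintro p ⟨n, hn⟩ b hb
  exact eq_zero_of_pow_eq_zero (n := n) (by rw [← map_pow]; exact hn b hb)

/-- Outside every minimal prime but one there is a function killing that prime into the ideal. -/
theorem exists_sep (D : Set (ι → k)) {P : Ideal (MvPolynomial ι k)} (hP : P ∈ (vanId D).minimalPrimes) :
    ∃ u, u ∉ P ∧ ∀ p ∈ P, ∀ b ∈ D, eval b u * eval b p = 0 := by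
  classical
  haveI := hP.1.1
  have hfin := Ideal.finite_minimalPrimes_of_isNoetherianRing (MvPolynomial ι k) (vanId D)
  let others := hfin.toFinset.erase P
  obtain ⟨u, hu, huP⟩ : ∃ u, u ∈ others.inf id ∧ u ∉ P := by
    refine SetLike.not_le_iff_exists.mp fun hle => ?_
    obtain ⟨Q, hQ, hQP⟩ := (Ideal.IsPrime.inf_le' hP.1.1).mp hle
    obtain ⟨hne, hQm⟩ := Finset.mem_erase.mp hQ
    rw [Set.Finite.mem_toFinset] at hQm
    exact hne (le_antisymm hQP (hP.2 hQm.1 hQP))
  refine ⟨u, huP, fun p hp b hb => ?_⟩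
  rw [← map_mul]
  refine (mem_vanId.mp ?_) b hb
  rw [← (isRadical_vanId D).radical, ← Ideal.sInf_minimalPrimes]
  refine Submodule.mem_sInf.mpr fun Q hQ => ?_
  by_cases h : Q = P
  · subst h; exact Ideal.mul_mem_left _ _ hp
  · exact Ideal.mul_mem_right _ _ ((Finset.inf_le (Finset.mem_erase.mpr ⟨h, hfin.mem_toFinset.mpr hQ⟩) :
      others.inf id ≤ Q) hu)

/-- The field of the generic point of a prime. -/
abbrev GenPt (P : Ideal (MvPolynomial ι k)) [P.IsPrime] : Type u :=
  AlgebraicClosure (FractionRing (MvPolynomial ι k ⧸ P))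

theorem ker_genPt (P : Ideal (MvPolynomial ι k)) [P.IsPrime] :
    RingHom.ker (algebraMap (MvPolynomial ι k) (GenPt P)) = P := by
  rw [IsScalarTower.algebraMap_eq (MvPolynomial ι k) (MvPolynomial ι k ⧸ P) (GenPt P),
    RingHom.ker_comp_of_injective _ ?_, Ideal.Quotient.algebraMap_eq, Ideal.mk_ker]
  rw [IsScalarTower.algebraMap_eq (MvPolynomial ι k ⧸ P) (FractionRing (MvPolynomial ι k ⧸ P)) (GenPt P)]
  exact (algebraMap (FractionRing (MvPolynomial ι k ⧸ P)) (GenPt P)).injective.comp (IsFractionRing.injective _ _)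

theorem exists_denom {A K : Type u} [CommRing A] [Field K] (f : A →+* K)
    (hf : ∀ z : K, ∃ a b, f b ≠ 0 ∧ f b * z = f a) {N : ℕ} (p : MvPolynomial (Fin N) K) :
    ∃ a p', f a ≠ 0 ∧ C (f a) * p = MvPolynomial.map f p' := by
  induction p using MvPolynomial.induction_on' with
  | monomial ν z =>
    obtain ⟨a, b, hb, hab⟩ := hf z
    exact ⟨b, monomial ν a, hb, by rw [C_mul_monomial, hab, map_monomial]⟩
  | add p q hp hq =>
    obtain ⟨a, p', ha, hp'⟩ := hp
    obtain ⟨b, q', hb, hq'⟩ := hq
    refine ⟨a * b, C b * p' + C a * q', by rw [map_mul]; exact mul_ne_zero ha hb, ?_⟩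
    simp only [map_mul, map_add, map_C, ← hp', ← hq']
    ring

theorem exists_mem_span {A K : Type u} [CommRing A] [Field K] (f : A →+* K)
    (hf : ∀ z : K, ∃ a b, f b ≠ 0 ∧ f b * z = f a) {N : ℕ} (S : Set (MvPolynomial (Fin N) A))
    {p : MvPolynomial (Fin N) K} (hp : p ∈ Ideal.span (MvPolynomial.map f '' S)) :
    ∃ a w, f a ≠ 0 ∧ w ∈ Ideal.span S ∧ C (f a) * p = MvPolynomial.map f w := by
  induction hp using Submodule.span_induction with
  | mem z hz =>
    obtain ⟨g, hg, rfl⟩ := hz
    exact ⟨1, g, by simp, Ideal.subset_span hg, by simp⟩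
  | zero => exact ⟨1, 0, by simp, zero_mem _, by simp⟩
  | add x y _ _ hx hy =>
    obtain ⟨a, w, ha, hw, hx⟩ := hx
    obtain ⟨b, z, hb, hz, hy⟩ := hy
    refine ⟨a * b, C b * w + C a * z, by rw [map_mul]; exact mul_ne_zero ha hb,
      add_mem (Ideal.mul_mem_left _ _ hw) (Ideal.mul_mem_left _ _ hz), ?_⟩
    simp only [map_mul, map_add, map_C, ← hx, ← hy]
    ring
  | smul c x _ hx =>
    obtain ⟨a, w, ha, hw, hx⟩ := hx
    obtain ⟨b, c', hb, hc⟩ := exists_denom f hf c
    refine ⟨a * b, c' * w, by rw [map_mul]; exact mul_ne_zero ha hb, Ideal.mul_mem_left _ _ hw, ?_⟩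
    simp only [map_mul, smul_eq_mul, ← hx, ← hc]
    ring

/-- A family of forms with a nonzero common zero on `D` keeps one at every generic point of `D`. -/
theorem exists_zero_generic (D : Set (ι → k)) {P : Ideal (MvPolynomial ι k)} [P.IsPrime]
    (hP : P ∈ (vanId D).minimalPrimes) {κ : Type*} {N : ℕ} (U : κ → MvPolynomial (Fin N) (MvPolynomial ι k))
    (hU : ∀ b ∈ D, ∃ v : Fin N → k, v ≠ 0 ∧ ∀ i, eval v (MvPolynomial.map (eval b) (U i)) = 0) :
    ∃ v : Fin N → GenPt P, v ≠ 0 ∧
      ∀ i, eval v (MvPolynomial.map (algebraMap (MvPolynomial ι k) (GenPt P)) (U i)) = 0 := by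
  classical
  by_contra hno
  push Not at hno
  let A := MvPolynomial ι k
  let K := FractionRing (A ⧸ P)
  let f : A →+* K := (algebraMap (A ⧸ P) K).comp (Ideal.Quotient.mk P)
  have hfker : ∀ a, f a = 0 ↔ a ∈ P := fun a => by
    show algebraMap (A ⧸ P) K (Ideal.Quotient.mk P a) = 0 ↔ _
    rw [map_eq_zero_iff _ (IsFractionRing.injective (A ⧸ P) K), Ideal.Quotient.eq_zero_iff_mem]
  have hf : ∀ z : K, ∃ a b, f b ≠ 0 ∧ f b * z = f a := by
    intro z
    obtain ⟨⟨x, s⟩, h⟩ := IsLocalization.surj (nonZeroDivisors (A ⧸ P)) z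
    obtain ⟨a, rfl⟩ := Ideal.Quotient.mk_surjective x
    obtain ⟨b, hb⟩ := Ideal.Quotient.mk_surjective (s : A ⧸ P)
    refine ⟨a, b, ?_, ?_⟩
    · show algebraMap _ K (Ideal.Quotient.mk P b) ≠ 0
      rw [hb]; exact IsFractionRing.to_map_ne_zero_of_mem_nonZeroDivisors s.2
    · show algebraMap _ K (Ideal.Quotient.mk P b) * z = algebraMap _ K _
      rw [hb, mul_comm]; exact h
  have halg : algebraMap A (GenPt P) = (algebraMap K (GenPt P)).comp f := by
    rw [IsScalarTower.algebraMap_eq A (A ⧸ P) (GenPt P), IsScalarTower.algebraMap_eq (A ⧸ P) K (GenPt P)]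
    rfl
  have honly : Only (GenPt P) (fun i => MvPolynomial.map (algebraMap A (GenPt P)) (U i))
      (fun a : Empty => a.elim) := fun v hv _ => by
    by_contra hv0
    obtain ⟨i, hi⟩ := hno v hv0
    exact hi (hv i)
  obtain ⟨s, hs⟩ := exists_pow_mem honly
  have hl : ∀ l, (X l : MvPolynomial (Fin N) K) ^ s ∈ Ideal.span (MvPolynomial.map f '' Set.range U) := by
    intro l
    refine mem_span_of_map_mem (F := GenPt P) K _ _ ?_
    rw [map_pow, map_X, ← Set.range_comp, ← Set.range_comp]
    have := hs l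
    rw [show (Set.range fun a : Empty => (a.elim : MvPolynomial (Fin N) (GenPt P))) = ∅ from
      Set.range_eq_empty _, Set.union_empty] at this
    convert this using 3
    funext i
    show MvPolynomial.map (algebraMap K (GenPt P)) (MvPolynomial.map f (U i)) = _
    rw [MvPolynomial.map_map, halg]
  choose a w ha hw haw using fun l => exists_mem_span f hf _ (hl l)
  obtain ⟨u, huP, hu⟩ := exists_sep D hP
  have key : u * ∏ l, a l ∈ vanId D := by
    intro b hb
    obtain ⟨v, hv0, hv⟩ := hU b hb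
    obtain ⟨l, hl0⟩ := Function.ne_iff.mp hv0
    have hzero : ∀ z ∈ Ideal.span (Set.range U), eval v (MvPolynomial.map (eval b) z) = 0 := fun z hz => by
      refine RingHom.mem_ker.mp ((Ideal.span_le.mpr ?_) hz : z ∈ RingHom.ker ((eval v).comp (MvPolynomial.map (eval b))))
      rintro _ ⟨i, rfl⟩
      exact RingHom.mem_ker.mpr (hv i)
    have hE : ∀ ν, coeff ν (C (a l) * X l ^ s - w l) ∈ P := fun ν => by
      rw [← hfker, ← coeff_map]
      simp [map_sub, map_mul, ← haw l]
    have h1 : eval b u * eval v (MvPolynomial.map (eval b) (C (a l) * X l ^ s - w l)) = 0 := by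
      generalize hEdef : C (a l) * X l ^ s - w l = z at hE
      conv_lhs => rw [z.as_sum]
      simp only [map_sum, map_monomial, eval_monomial, Finset.mul_sum]
      refine Finset.sum_eq_zero fun ν _ => ?_
      rw [← mul_assoc, hu _ (hE ν) b hb, zero_mul]
    rw [map_sub, map_sub, hzero _ (hw l), sub_zero, map_mul, map_mul, map_C, eval_C, map_pow, map_X, map_pow, eval_X,
      ← mul_assoc] at h1
    have h2 := (mul_eq_zero.mp h1).resolve_right (pow_ne_zero _ hl0)
    rw [← Finset.mul_prod_erase Finset.univ a (Finset.mem_univ l), map_mul, map_mul, ← mul_assoc, h2, zero_mul]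
  have h3 := hP.1.2 key
  rcases (hP.1.1).mem_or_mem h3 with h | h
  · exact huP h
  · obtain ⟨l, -, hl'⟩ := Ideal.IsPrime.prod_mem_iff.mp h
    exact ha l ((hfker _).mpr hl')

/-- A bound on heights of primes over the vanishing ideal bounds the codimension. -/
theorem codimGE_of_forall_prime [Infinite k] {V : Type u} [AddCommGroup V] [Module k V] (e : V ≃ₗ[k] (ι → k)) (D : Set V) (c : ℕ)
    (h : ∀ P ∈ (vanId (e '' D)).minimalPrimes, (c : ℕ∞) ≤ P.height) : LefPen.CodimGE k D c := by
  haveI := Fintype.ofFinite ι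
  let φ₀ : MvPolynomial ι k →ₐ[k] (V → k) := aeval fun i v => e v i
  have hφ₀ : ∀ p v, φ₀ p v = eval (e v) p := fun p v => by
    induction p using MvPolynomial.induction_on with
    | C a => simp [φ₀]
    | add p q hp hq => simp only [map_add, Pi.add_apply, hp, hq]
    | mul_X p i hp => simp only [map_mul, Pi.mul_apply, hp, φ₀, aeval_X, eval_X]
  have hrange : φ₀.range = LefPen.polyFunAlg k V := by
    refine le_antisymm ?_ (Algebra.adjoin_le ?_)
    · rintro _ ⟨p, rfl⟩
      induction p using MvPolynomial.induction_on with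
      | C a => rw [show φ₀.toRingHom (C a) = algebraMap k (V → k) a from φ₀.commutes a]; exact Subalgebra.algebraMap_mem _ a
      | add p q hp hq => rw [map_add]; exact add_mem hp hq
      | mul_X p i hp =>
        rw [map_mul]
        refine mul_mem hp (Algebra.subset_adjoin ⟨(LinearMap.proj i).comp e.toLinearMap, ?_⟩)
        funext v; simp [φ₀]
    · rintro _ ⟨l, rfl⟩
      classical
      refine ⟨∑ i, C (l (e.symm (Pi.single i 1))) * X i, funext fun v => ?_⟩
      show φ₀ _ v = _
      rw [hφ₀, map_sum]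
      conv_rhs => rw [← e.symm_apply_apply v, ← Finset.univ_sum_single (e v)]
      simp only [map_sum]
      refine Finset.sum_congr rfl fun i _ => ?_
      rw [map_mul, eval_C, eval_X, show (Pi.single i (e v i) : ι → k) = e v i • Pi.single i 1 by
        rw [← Pi.single_smul, smul_eq_mul, mul_one], map_smul, map_smul, smul_eq_mul, mul_comm]
  have hinj : Function.Injective φ₀ := fun p q hpq => MvPolynomial.funext fun x => by
    have := congrFun hpq (e.symm x)
    rwa [hφ₀, hφ₀, e.apply_symm_apply] at this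
  let φ : MvPolynomial ι k ≃ₐ[k] LefPen.polyFunAlg k V :=
    (AlgEquiv.ofInjective φ₀ hinj).trans (Subalgebra.equivOfEq _ _ hrange)
  have hcomap : (LefPen.vanishingFun k D).comap φ.toRingEquiv = vanId (e '' D) := by
    ext p
    show (∀ v ∈ D, φ₀ p v = 0) ↔ ∀ b ∈ e '' D, eval b p = 0
    simp only [Set.forall_mem_image, hφ₀]
  show (c : ℕ∞) ≤ (LefPen.vanishingFun k D).height
  rw [← RingEquiv.height_comap φ.toRingEquiv, hcomap, Ideal.height_eq_inf_minimalPrimes]
  exact le_iInf₂ h

end Groth.Agent.FanoLib.SeqDim
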