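import Groth.Agent.FanoLib.SeqDim.Core
import Groth.Agent.FanoLib.SeqDim.Dim
import Groth.Agent.LineExist.Generic

/-!
# Coordinates on tuples of forms of degrees `1, …, d`
-/

set_option linter.style.haveILetI false

universe u

open MvPolynomial

namespace Groth.Agent.FanoLib.SeqDim

open LineExist

/-- The coordinates of a tuple of forms of degrees `1, …, d` in `m + 1` variables. -/
abbrev Idx (m d : ℕ) : Type := (j : Fin d) × Mon m (j.1 + 1)

variable {k : Type u} [Field k] {m d : ℕ}

/-- The tuple with given coordinates in any algebra. -/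
noncomputable def tuple {R : Type u} [CommRing R] (x : Idx m d → R) (j : Fin d) : MvPolynomial (Fin (m + 1)) R :=
  letI := Fintype.ofFinite (Mon m (j.1 + 1))
  ∑ ν : Mon m (j.1 + 1), monomial ν.1 (x ⟨j, ν⟩)

theorem isHomogeneous_tuple {R : Type u} [CommRing R] (x : Idx m d → R) (j : Fin d) :
    (tuple x j).IsHomogeneous (j.1 + 1) := by
  letI := Fintype.ofFinite (Mon m (j.1 + 1))
  exact IsHomogeneous.sum _ _ _ fun ν _ => isHomogeneous_monomial _ ν.2

theorem coeff_tuple {R : Type u} [CommRing R] (x : Idx m d → R) (j : Fin d) (ν : Mon m (j.1 + 1)) :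
    coeff ν.1 (tuple x j) = x ⟨j, ν⟩ := by
  classical
  letI := Fintype.ofFinite (Mon m (j.1 + 1))
  simp only [tuple, coeff_sum, coeff_monomial]
  rw [Finset.sum_eq_single ν]
  · simp
  · intro b _ hb; simp [Subtype.coe_ne_coe.2 hb]
  · simp

theorem map_tuple {R R' : Type u} [CommRing R] [CommRing R'] (f : R →+* R') (x : Idx m d → R) (j : Fin d) :
    MvPolynomial.map f (tuple x j) = tuple (fun i => f (x i)) j := by
  letI := Fintype.ofFinite (Mon m (j.1 + 1))
  simp only [tuple, map_sum, map_monomial]

theorem exists_coeff_tuple_eq {R : Type u} [CommRing R] (x : Idx m d → R) (j : Fin d) (μ : Fin (m + 1) →₀ ℕ) :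
    coeff μ (tuple x j) = 0 ∨ ∃ i : Idx m d, i.1 = j ∧ coeff μ (tuple x j) = x i := by
  by_cases h : μ.degree = j.1 + 1
  · exact Or.inr ⟨⟨j, ⟨μ, h⟩⟩, rfl, coeff_tuple x j ⟨μ, h⟩⟩
  · exact Or.inl ((isHomogeneous_tuple x j).coeff_eq_zero h)

theorem exists_equiv (m d : ℕ) :
    ∃ e : ((j : Fin d) → LefPen.Form m k (j.1 + 1)) ≃ₗ[k] (Idx m d → k),
      ∀ G j, tuple (e G) j = (G j).1 := by
  let f : ((j : Fin d) → LefPen.Form m k (j.1 + 1)) →ₗ[k] (Idx m d → k) :=
    LinearMap.pi fun i => ((lcoeff k i.2.1).comp (Submodule.subtype _)).comp (LinearMap.proj i.1)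
  have hf : ∀ G j, tuple (f G) j = (G j).1 := by
    intro G j
    ext μ
    rcases eq_or_ne μ.degree (j.1 + 1) with h | h
    · exact coeff_tuple (f G) j ⟨μ, h⟩
    · rw [(isHomogeneous_tuple (f G) j).coeff_eq_zero h,
        ((mem_homogeneousSubmodule _ _).1 (G j).2).coeff_eq_zero h]
  refine ⟨LinearEquiv.ofBijective f ⟨fun G G' h => funext fun j => Subtype.ext ?_, fun x => ?_⟩, hf⟩
  · rw [← hf, ← hf, h]
  · choose G hG using fun j : Fin d => exists_form (fun ν => x ⟨j, ν⟩)
    exact ⟨G, funext fun i => congrFun (hG i.1) i.2⟩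

theorem card_idx (m d : ℕ) : Nat.card (Idx m d) = ∑ j : Fin d, Nat.choose (m + (j.1 + 1)) (j.1 + 1) := by
  letI : ∀ j : Fin d, Fintype (Mon m (j.1 + 1)) := fun j => Fintype.ofFinite _
  rw [Nat.card_sigma]
  exact Finset.sum_congr rfl fun j _ => by rw [Nat.card_eq_fintype_card, card_mon]

variable [Infinite k]

/-- The coordinates of a bad tuple over an algebraically closed field are algebraic over few elements. -/
theorem exists_finset_of_bad {F : Type u} [Field F] [IsAlgClosed F] [Algebra k F] (hdm : d ≤ m) (x : Idx m d → F)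
    (hbad : ∀ e, e + d = m + 1 → ∀ y : Fin e → MvPolynomial (Fin (m + 1)) k, (∀ a, (y a).IsHomogeneous 1) →
      ¬ Only F (tuple x) (fun a => MvPolynomial.map (algebraMap k F) (y a))) :
    ∃ S : Finset F, S.card + (m + 1) ≤ Nat.card (Idx m d) ∧
      ∀ i, IsAlgebraic (IntermediateField.adjoin k (S : Set F)) (x i) := by
  classical
  obtain ⟨i₀, r, a, hr, halg⟩ := exists_generators hdm (tuple x) (isHomogeneous_tuple x) hbad
  letI : ∀ j : Fin d, Fintype (Mon m (j.1 + 1)) := fun j => Fintype.ofFinite _
  let others : Finset (Idx m d) := Finset.univ.filter fun i => i.1 ≠ i₀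
  refine ⟨Finset.univ.image a ∪ others.image x, ?_, fun i => ?_⟩
  · have h1 := (Finset.card_union_le (Finset.univ.image a) (others.image x)).trans
      (add_le_add Finset.card_image_le Finset.card_image_le)
    have h2 : others = (Finset.univ.erase i₀).sigma (fun _ => Finset.univ) := by
      ext i; simp [others]
    have h3 : others.card = ∑ j ∈ Finset.univ.erase i₀, Nat.choose (m + (j.1 + 1)) (j.1 + 1) := by
      rw [h2, Finset.card_sigma]
      exact Finset.sum_congr rfl fun j _ => by rw [Finset.card_univ, card_mon]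
    rw [Finset.card_univ, Fintype.card_fin, h3] at h1
    rw [card_idx, ← Finset.add_sum_erase _ _ (Finset.mem_univ i₀)]
    omega
  · set S : Set F := ↑(Finset.univ.image a ∪ others.image x) with hS
    by_cases hi : i.1 = i₀
    · have hle : IntermediateField.adjoin k (Set.range a ∪ {z : F | ∃ j, j ≠ i₀ ∧ ∃ μ, coeff μ (tuple x j) = z}) ≤
          IntermediateField.adjoin k S := by
        refine IntermediateField.adjoin_le_iff.mpr ?_
        rintro z (⟨j, rfl⟩ | ⟨j, hj, μ, rfl⟩)
        · exact IntermediateField.subset_adjoin k S (by simp [hS])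
        · rcases exists_coeff_tuple_eq x j μ with h | ⟨i', hi', h⟩
          · rw [h]; exact zero_mem _
          · rw [h]
            refine IntermediateField.subset_adjoin k S ?_
            simp only [hS, Finset.coe_union, Set.mem_union, Finset.mem_coe, Finset.mem_image]
            exact Or.inr ⟨i', by simp [others, hi', hj], rfl⟩
      obtain ⟨q, hq0, hq⟩ := halg i.2.1
      refine ⟨q.map (IntermediateField.inclusion hle).toRingHom,
        (Polynomial.map_ne_zero_iff (IntermediateField.inclusion hle).injective).mpr hq0, ?_⟩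
      rw [Polynomial.aeval_def, Polynomial.eval₂_map]
      obtain ⟨j, ν⟩ := i
      subst hi
      rw [← coeff_tuple x j ν]
      exact hq
    · refine isAlgebraic_algebraMap (⟨x i, IntermediateField.subset_adjoin k S ?_⟩ : IntermediateField.adjoin k S)
      simp only [hS, Finset.coe_union, Set.mem_union, Finset.mem_coe, Finset.mem_image]
      exact Or.inr ⟨i, by simp [others, hi], rfl⟩

/-- A system cut out by `e` linear forms has dimension at most `e`. -/
theorem ringKrullDim_le_of_only [IsAlgClosed k] {N : ℕ} {κ : Type*} {G : κ → MvPolynomial (Fin N) k} {D : κ → ℕ}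
    (hG : ∀ i, (G i).IsHomogeneous (D i)) {e : ℕ} {y : Fin e → MvPolynomial (Fin N) k}
    (hy : ∀ a, (y a).IsHomogeneous 1) (h : Only k G y) :
    ringKrullDim (MvPolynomial (Fin N) k ⧸ Ideal.span (Set.range G)) ≤ e :=
  FibDim.ringKrullDim_le_of_finite _ (finite_of_only (F := k) hG hy (by
    have e1 : ∀ p : MvPolynomial (Fin N) k, MvPolynomial.map (algebraMap k k) p = p := fun p => by
      rw [Algebra.algebraMap_self, MvPolynomial.map_id]
    simp only [e1]; exact h))

end Groth.Agent.FanoLib.SeqDim
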