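import Mathlib
import Groth.Agent.FibDim.BaseChange

/-!
# Linear sections of homogeneous systems, over a subfield
-/

set_option linter.style.haveILetI false

universe u

open MvPolynomial

namespace Groth.Agent.FanoLib.SeqDim

variable {k F : Type u} [Field k] [Field F] [Algebra k F] {N : ℕ}

/-- The systems `G` and `y` have no common zero but the origin. -/
def Only (F : Type u) [Field F] {ι κ : Type*} (G : ι → MvPolynomial (Fin N) F)
    (y : κ → MvPolynomial (Fin N) F) : Prop :=
  ∀ v : Fin N → F, (∀ i, eval v (G i) = 0) → (∀ a, eval v (y a) = 0) → v = 0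

theorem exists_pow_mem [IsAlgClosed F] {ι κ : Type*} {G : ι → MvPolynomial (Fin N) F}
    {y : κ → MvPolynomial (Fin N) F} (h : Only F G y) :
    ∃ s : ℕ, ∀ l, (X l : MvPolynomial (Fin N) F) ^ s ∈ Ideal.span (Set.range G ∪ Set.range y) := by
  have hl : ∀ l, (X l : MvPolynomial (Fin N) F) ∈ (Ideal.span (Set.range G ∪ Set.range y)).radical := by
    intro l
    rw [← vanishingIdeal_zeroLocus_eq_radical (K := F), mem_vanishingIdeal_iff]
    intro v hv
    rw [mem_zeroLocus_iff] at hv
    have := h v (fun i => by simpa [MvPolynomial.aeval_eq_eval] using hv _ (Ideal.subset_span (Or.inl ⟨i, rfl⟩)))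
      (fun a => by simpa [MvPolynomial.aeval_eq_eval] using hv _ (Ideal.subset_span (Or.inr ⟨a, rfl⟩)))
    simp [this]
  choose s hs using hl
  exact ⟨Finset.univ.sup s, fun l => Ideal.pow_mem_of_pow_mem _ (hs l) (Finset.le_sup (f := s) (Finset.mem_univ l))⟩

theorem exists_retract (E : Type u) [Field E] [Algebra E F] :
    ∃ Ret : MvPolynomial (Fin N) F →+ MvPolynomial (Fin N) E,
      (∀ p, Ret (MvPolynomial.map (algebraMap E F) p) = p) ∧
      ∀ a p, Ret (a * MvPolynomial.map (algebraMap E F) p) = Ret a * p := by
  obtain ⟨π, hπ⟩ := (Algebra.linearMap E F).exists_leftInverse_of_injective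
    (LinearMap.ker_eq_bot.mpr (algebraMap E F).injective)
  have hπe : ∀ e, π (algebraMap E F e) = e := fun e => LinearMap.congr_fun hπ e
  have hπm : ∀ c e, π (c * algebraMap E F e) = π c * e := fun c e => by
    rw [mul_comm c, ← Algebra.smul_def, map_smul, smul_eq_mul, mul_comm]
  let Q₀ : MvPolynomial (Fin N) F → MvPolynomial (Fin N) E := fun p =>
    ∑ ν ∈ p.support, monomial ν (π (coeff ν p))
  have hco : ∀ p μ, coeff μ (Q₀ p) = π (coeff μ p) := by
    intro p μ
    classical
    simp only [Q₀, coeff_sum, coeff_monomial, Finset.sum_ite_eq']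
    split_ifs with h
    · rfl
    · rw [notMem_support_iff.mp h, map_zero]
  let Q : MvPolynomial (Fin N) F →+ MvPolynomial (Fin N) E :=
    AddMonoidHom.mk' Q₀ fun p q => by ext μ; simp [hco]
  have hQ : ∀ ν c, Q (monomial ν c) = monomial ν (π c) := fun ν c => by
    classical
    ext μ
    show coeff μ (Q₀ _) = _
    rw [hco, coeff_monomial, coeff_monomial]
    split_ifs <;> simp
  have key : ∀ a p, Q (a * MvPolynomial.map (algebraMap E F) p) = Q a * p := by
    intro a p
    induction a using MvPolynomial.induction_on' with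
    | add a b ha hb => simp [add_mul, ha, hb]
    | monomial ν c =>
      induction p using MvPolynomial.induction_on' with
      | add a b ha hb => simp [mul_add, ha, hb]
      | monomial μ e => rw [map_monomial, monomial_mul, hQ, hQ, monomial_mul, hπm]
  refine ⟨Q, fun p => ?_, key⟩
  have := key 1 p
  rwa [one_mul, show Q 1 = 1 by
    rw [show (1 : MvPolynomial (Fin N) F) = monomial 0 (algebraMap E F 1) by simp, hQ, hπe]; simp, one_mul] at this

theorem mem_span_of_map_mem (E : Type u) [Field E] [Algebra E F] (S : Set (MvPolynomial (Fin N) E))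
    (p : MvPolynomial (Fin N) E)
    (h : MvPolynomial.map (algebraMap E F) p ∈ Ideal.span (MvPolynomial.map (algebraMap E F) '' S)) :
    p ∈ Ideal.span S := by
  obtain ⟨Q, hQ1, hQ2⟩ := exists_retract (F := F) (N := N) E
  suffices ∀ z ∈ Ideal.span (MvPolynomial.map (algebraMap E F) '' S), ∀ a, Q (a * z) ∈ Ideal.span S by
    simpa [hQ1] using this _ h 1
  intro z hz
  induction hz using Submodule.span_induction with
  | mem z hz =>
    obtain ⟨g, hg, rfl⟩ := hz
    intro a; rw [hQ2]; exact Ideal.mul_mem_left _ _ (Ideal.subset_span hg)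
  | zero => simp
  | add x y _ _ hx hy => intro a; rw [mul_add, map_add]; exact add_mem (hx a) (hy a)
  | smul c x _ hx => intro a; rw [smul_eq_mul, ← mul_assoc]; exact hx (a * c)

theorem homogeneousComponent_mul {E : Type u} [CommRing E] {g : MvPolynomial (Fin N) E} {e : ℕ}
    (hg : g.IsHomogeneous e) (b : MvPolynomial (Fin N) E) (D : ℕ) (hD : e ≤ D) :
    homogeneousComponent D (b * g) = homogeneousComponent (D - e) b * g := by
  conv_lhs => rw [← sum_homogeneousComponent b, Finset.sum_mul, map_sum]
  have h1 : ∀ i, homogeneousComponent D (homogeneousComponent i b * g) =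
      if i = D - e then homogeneousComponent i b * g else 0 := by
    intro i
    rw [homogeneousComponent_of_mem ((homogeneousComponent_isHomogeneous i b).mul hg)]
    by_cases h : i = D - e
    · rw [if_pos h, if_pos (by omega)]
    · rw [if_neg h, if_neg (by omega)]
  simp_rw [h1]
  rw [Finset.sum_ite_eq']
  split_ifs with h
  · rfl
  · rw [homogeneousComponent_eq_zero (D - e) b (by simp at h; omega), zero_mul]

theorem homogeneousComponent_mul_of_lt {E : Type u} [CommRing E] {g : MvPolynomial (Fin N) E} {e : ℕ}
    (hg : g.IsHomogeneous e) (b : MvPolynomial (Fin N) E) (D : ℕ) (hD : D < e) :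
    homogeneousComponent D (b * g) = 0 := by
  conv_lhs => rw [← sum_homogeneousComponent b, Finset.sum_mul, map_sum]
  refine Finset.sum_eq_zero fun i _ => ?_
  rw [homogeneousComponent_of_mem ((homogeneousComponent_isHomogeneous i b).mul hg), if_neg (by omega)]

/-- If the coordinates are nilpotent modulo `G` and `y`, the quotient by `G` is finite over `y`. -/
theorem finite_of_pow_mem {E : Type u} [Field E] {ι κ : Type*} {G : ι → MvPolynomial (Fin N) E} {D : ι → ℕ}
    (hG : ∀ i, (G i).IsHomogeneous (D i)) {y : κ → MvPolynomial (Fin N) E} (hy : ∀ a, (y a).IsHomogeneous 1)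
    {s : ℕ} (hs : ∀ l, (X l : MvPolynomial (Fin N) E) ^ s ∈ Ideal.span (Set.range G ∪ Set.range y)) :
    ((Ideal.Quotient.mkₐ E (Ideal.span (Set.range G))).comp (aeval y)).Finite := by
  classical
  let ω := (Ideal.Quotient.mkₐ E (Ideal.span (Set.range G))).comp (aeval y)
  let J := Ideal.span (Set.range G)
  letI alg := ω.toRingHom.toAlgebra
  show Module.Finite (MvPolynomial κ E) (MvPolynomial (Fin N) E ⧸ J)
  let B : Set (MvPolynomial (Fin N) E ⧸ J) :=
    (fun ν => Ideal.Quotient.mk J (monomial ν (1 : E))) '' {ν | ∀ l, ν l < s + 1}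
  have hB : B.Finite := by
    refine Set.Finite.image _ ((Set.Finite.pi' (fun _ : Fin N => Set.finite_Iio (s + 1))).preimage
      (f := fun ν : Fin N →₀ ℕ => (⇑ν)) (DFunLike.coe_injective.injOn) |>.subset fun ν hν => ?_)
    exact fun l => hν l
  suffices key : ∀ (d : ℕ) (p : MvPolynomial (Fin N) E), p.IsHomogeneous d →
      Ideal.Quotient.mk J p ∈ Submodule.span (MvPolynomial κ E) B by
    refine ⟨⟨hB.toFinset, ?_⟩⟩
    rw [Set.Finite.coe_toFinset, eq_top_iff]
    rintro z -
    obtain ⟨p, rfl⟩ := Ideal.Quotient.mk_surjective z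
    rw [← sum_homogeneousComponent p, map_sum]
    exact sum_mem fun i _ => key i _ (homogeneousComponent_isHomogeneous i p)
  intro d
  induction d using Nat.strong_induction_on with
  | _ d ih =>
    intro p hp
    rw [p.as_sum, map_sum]
    refine sum_mem fun ν hν => ?_
    have hνd : ν.degree = d := by
      have := hp (mem_support_iff.mp hν)
      rwa [Finsupp.degree_eq_weight_one]
    suffices h : Ideal.Quotient.mk J (monomial ν (1 : E)) ∈ Submodule.span (MvPolynomial κ E) B by
      have e : Ideal.Quotient.mk J (monomial ν (coeff ν p)) =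
          (C (coeff ν p) : MvPolynomial κ E) • Ideal.Quotient.mk J (monomial ν (1 : E)) := by
        show _ = Ideal.Quotient.mk J (aeval y (C (coeff ν p) : MvPolynomial κ E)) * _
        rw [aeval_C, ← map_mul]
        congr 1
        simp [C_mul_monomial, MvPolynomial.algebraMap_eq]
      rw [e]
      exact Submodule.smul_mem _ _ h
    by_cases hsmall : ∀ l, ν l < s + 1
    · exact Submodule.subset_span ⟨ν, hsmall, rfl⟩
    push Not at hsmall
    obtain ⟨l, hl⟩ := hsmall
    have hsplit : monomial ν (1 : E) = monomial (ν - Finsupp.single l s) (1 : E) * X l ^ s := by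
      rw [X_pow_eq_monomial, monomial_mul, one_mul, tsub_add_cancel_of_le]
      intro l'
      by_cases h : l' = l <;> simp [h, Finsupp.single_apply, eq_comm] <;> omega
    have hmem : monomial ν (1 : E) ∈ Ideal.span (Set.range G ∪ Set.range y) := by
      rw [hsplit]; exact Ideal.mul_mem_left _ _ (hs l)
    have hcomp : monomial ν (1 : E) = homogeneousComponent d (monomial ν (1 : E)) := by
      rw [homogeneousComponent_of_mem (isHomogeneous_monomial 1 hνd), if_pos rfl]
    rw [hcomp]
    generalize monomial ν (1 : E) = q at hmem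
    suffices ∀ a, Ideal.Quotient.mk J (homogeneousComponent d (a * q)) ∈ Submodule.span (MvPolynomial κ E) B by
      simpa using this 1
    induction hmem using Submodule.span_induction with
    | zero => simp
    | add x z _ _ hx hz => intro a; rw [mul_add, map_add, map_add]; exact add_mem (hx a) (hz a)
    | smul c x _ hx => intro a; rw [smul_eq_mul, ← mul_assoc]; exact hx (a * c)
    | mem x hx =>
      intro a
      rcases hx with ⟨i, rfl⟩ | ⟨i, rfl⟩
      · by_cases hD : D i ≤ d
        · rw [homogeneousComponent_mul (hG i) a d hD, Ideal.Quotient.eq_zero_iff_mem.mpr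
            (Ideal.mul_mem_left _ _ (Ideal.subset_span (Set.mem_range_self i)))]
          exact zero_mem _
        · rw [homogeneousComponent_mul_of_lt (hG i) a d (by omega), map_zero]
          exact zero_mem _
      · rcases Nat.eq_zero_or_pos d with hd | hd
        · rw [homogeneousComponent_mul_of_lt (hy i) a d (by omega), map_zero]
          exact zero_mem _
        · rw [homogeneousComponent_mul (hy i) a d hd, map_mul]
          have e : Ideal.Quotient.mk J (homogeneousComponent (d - 1) a) * Ideal.Quotient.mk J (y i) =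
              (X i : MvPolynomial κ E) • Ideal.Quotient.mk J (homogeneousComponent (d - 1) a) := by
            show _ = Ideal.Quotient.mk J (aeval y (X i : MvPolynomial κ E)) * _
            rw [aeval_X, mul_comm]
          rw [e]
          exact Submodule.smul_mem _ _ (ih (d - 1) (by omega) _ (homogeneousComponent_isHomogeneous _ _))

/-- A system cut out by `e` linear forms has dimension at most `e`. -/
theorem finite_of_only [IsAlgClosed F] {E : Type u} [Field E] [Algebra E F] {ι κ : Type*}
    {G : ι → MvPolynomial (Fin N) E} {D : ι → ℕ} (hG : ∀ i, (G i).IsHomogeneous (D i))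
    {y : κ → MvPolynomial (Fin N) E} (hy : ∀ a, (y a).IsHomogeneous 1)
    (h : Only F (fun i => MvPolynomial.map (algebraMap E F) (G i)) (fun a => MvPolynomial.map (algebraMap E F) (y a))) :
    ((Ideal.Quotient.mkₐ E (Ideal.span (Set.range G))).comp (aeval y)).Finite := by
  obtain ⟨s, hs⟩ := exists_pow_mem h
  refine finite_of_pow_mem hG hy (s := s) fun l => mem_span_of_map_mem (F := F) E _ _ ?_
  rw [map_pow, map_X, Set.image_union, ← Set.range_comp, ← Set.range_comp]
  exact hs l

theorem eq_zero_of_forall_eval_algebraMap [Infinite k] {e : ℕ} (q : MvPolynomial (Fin e) F)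
    (h : ∀ c : Fin e → k, eval (fun a => algebraMap k F (c a)) q = 0) : q = 0 := by
  refine MvPolynomial.funext_set (fun _ => Set.range (algebraMap k F))
    (fun _ => Set.infinite_range_of_injective (algebraMap k F).injective) fun x hx => ?_
  choose c hc using fun a => hx a trivial
  rw [show x = fun a => algebraMap k F (c a) from funext fun a => (hc a).symm, map_zero]
  exact h c

/-- If `y` cannot be shortened, every rational value of `y` is taken on the zeros. -/
theorem exists_zero_over {ι : Type*} {G : ι → MvPolynomial (Fin N) F} {D : ι → ℕ}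
    (hG : ∀ i, (G i).IsHomogeneous (D i)) (hD : ∀ i, D i ≠ 0) {e : ℕ}
    {y : Fin e → MvPolynomial (Fin N) k} (hy : ∀ a, (y a).IsHomogeneous 1)
    (h : Only F G (fun a => MvPolynomial.map (algebraMap k F) (y a)))
    (hfail : ∀ y' : Fin (e - 1) → MvPolynomial (Fin N) k, (∀ a, (y' a).IsHomogeneous 1) →
      ¬ Only F G (fun a => MvPolynomial.map (algebraMap k F) (y' a)))
    (c : Fin e → k) :
    ∃ v : Fin N → F, (∀ i, eval v (G i) = 0) ∧
      ∀ a, eval v (MvPolynomial.map (algebraMap k F) (y a)) = algebraMap k F (c a) := by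
  classical
  have hscale : ∀ {δ : ℕ} {q : MvPolynomial (Fin N) F}, q.IsHomogeneous δ → ∀ (t : F) (x : Fin N → F),
      eval (fun a => t * x a) q = t ^ δ * eval x q := fun {δ q} hq t x => by
    rw [eval_eq', eval_eq', Finset.mul_sum]
    refine Finset.sum_congr rfl fun ν hν => ?_
    simp only [mul_pow, Finset.prod_mul_distrib, Finset.prod_pow_eq_pow_sum]
    have hsum : ∑ a, ν a = δ := by
      simpa [Finsupp.weight_apply, Finsupp.sum_fintype] using hq (mem_support_iff.mp hν)
    rw [hsum]; ring
  by_cases hc : ∀ a, c a = 0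
  · refine ⟨fun a => 0 * (0 : F), fun i => by rw [hscale (hG i) 0 (fun _ => 0), zero_pow (hD i), zero_mul], fun a => ?_⟩
    rw [hscale ((hy a).map _) 0 (fun _ => 0), hc a]
    simp
  push Not at hc
  obtain ⟨a₀, ha₀⟩ := hc
  cases e with
  | zero => exact a₀.elim0
  | succ e =>
    let y' : Fin e → MvPolynomial (Fin N) k := fun b =>
      y (a₀.succAbove b) - C (c (a₀.succAbove b) / c a₀) * y a₀
    obtain ⟨v, hvG, hvy, hv0⟩ : ∃ v : Fin N → F, (∀ i, eval v (G i) = 0) ∧
        (∀ b, eval v (MvPolynomial.map (algebraMap k F) (y' b)) = 0) ∧ v ≠ 0 := by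
      have h' := hfail y' (fun b => (hy _).sub ((hy _).C_mul _))
      simp only [Only] at h'
      push Not at h'
      exact h'
    let t : F := eval v (MvPolynomial.map (algebraMap k F) (y a₀)) / algebraMap k F (c a₀)
    have hca : algebraMap k F (c a₀) ≠ 0 := by simpa using ha₀
    have hyv : ∀ a, eval v (MvPolynomial.map (algebraMap k F) (y a)) = t * algebraMap k F (c a) := by
      intro a
      rcases Fin.eq_self_or_eq_succAbove a₀ a with rfl | ⟨b, rfl⟩
      · simp only [t]; field_simp
      · have h0 := hvy b
        simp only [y', map_sub, map_mul, map_C, eval_C, map_div₀, sub_eq_zero] at h0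
        rw [h0]; simp only [t]; ring
    have ht : t ≠ 0 := fun ht => hv0 (h v hvG fun a => by rw [hyv a, ht, zero_mul])
    refine ⟨fun a => t⁻¹ * v a, fun i => by rw [hscale (hG i), hvG i, mul_zero], fun a => ?_⟩
    rw [hscale ((hy a).map _), hyv a, pow_one, ← mul_assoc, inv_mul_cancel₀ ht, one_mul]

/-- Coefficients lie in an intermediate field containing all values at rational points. -/
theorem coeff_mem [Infinite k] (L : IntermediateField k F) {e : ℕ} (q : MvPolynomial (Fin e) F)
    (h : ∀ c : Fin e → k, eval (fun a => algebraMap k F (c a)) q ∈ L) (μ : Fin e →₀ ℕ) : coeff μ q ∈ L := by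
  classical
  obtain ⟨f, hf⟩ := (Algebra.linearMap L F).exists_leftInverse_of_injective
    (LinearMap.ker_eq_bot.mpr (algebraMap L F).injective)
  have hfe : ∀ x : L, f (algebraMap L F x) = x := fun x => LinearMap.congr_fun hf x
  let π : F →ₗ[L] F := LinearMap.id - (Algebra.linearMap L F).comp f
  let q' : MvPolynomial (Fin e) F := ∑ ν ∈ q.support, monomial ν (π (coeff ν q))
  have hq' : q' = 0 := by
    refine eq_zero_of_forall_eval_algebraMap (k := k) q' fun c => ?_
    have h1 : eval (fun a => algebraMap k F (c a)) q' = π (eval (fun a => algebraMap k F (c a)) q) := by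
      simp only [q', map_sum]
      rw [eval_eq', map_sum]
      refine Finset.sum_congr rfl fun ν _ => ?_
      rw [eval_monomial, Finsupp.prod_fintype _ _ (fun _ => pow_zero _)]
      have e1 : ∏ a, algebraMap k F (c a) ^ ν a = algebraMap L F (algebraMap k L (∏ a, c a ^ ν a)) := by
        rw [← IsScalarTower.algebraMap_apply, map_prod]; simp
      rw [e1, mul_comm (coeff ν q), ← Algebra.smul_def, map_smul, Algebra.smul_def, mul_comm]
    rw [h1]
    obtain ⟨x, hx⟩ : ∃ x : L, algebraMap L F x = eval (fun a => algebraMap k F (c a)) q := ⟨⟨_, h c⟩, rfl⟩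
    rw [← hx]
    show algebraMap L F x - algebraMap L F (f (algebraMap L F x)) = 0
    rw [hfe, sub_self]
  by_cases hμ : μ ∈ q.support
  · have := congrArg (coeff μ) hq'
    simp only [q', coeff_sum, coeff_monomial, Finset.sum_ite_eq', hμ, if_true, coeff_zero] at this
    simp only [π, LinearMap.sub_apply, LinearMap.id_apply, LinearMap.comp_apply, sub_eq_zero] at this
    rw [this]
    exact (f (coeff μ q)).2
  · rw [notMem_support_iff.mp hμ]; exact zero_mem L

end Groth.Agent.FanoLib.SeqDim
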